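import Groth.Agent.Easy4.PushSuff
import Groth.Agent.Cohen.FormallyCatenary
import Groth.Agent.Cohen.Structure
import Groth.Agent.AdicBasics.Dimension
import Groth.Agent.S0568
import Groth.Agent.S0567
import Groth.Agent.S2069
import Groth.Agent.Nagata.Scheme
import Mathlib

/-! Coherence of the push-forward from the punctured spectrum, read off the completion. -/

set_option autoImplicit false
set_option maxSynthPendingDepth 3

namespace Groth.Agent.Easy4.PushFin

universe u

open IsLocalRing

/-- bounded denominators for the ideal transform. -/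
def Bd (D : Type u) [CommRing D] (J : Ideal D) (b : D) : Prop :=
  ∃ N, ∀ (n : ℕ) (x : D), (∀ c ∈ J ^ n, b ^ n ∣ c * x) → b ^ (n - N) ∣ x

theorem fin_iff_bd {D : Type u} [CommRing D] [IsNoetherianRing D] (J : Ideal D) (b : D) (hbJ : b ∈ J)
    (hb : b ∈ nonZeroDivisors D) : Fin' J D ↔ Bd D J b := by
  let L := Localization.Away b
  have hι : Function.Injective (algebraMap D L) := IsLocalization.injective L (M := Submonoid.powers b) (Submonoid.powers_le.2 hb)
  have hu : IsUnit (algebraMap D L b) := IsLocalization.Away.algebraMap_isUnit b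
  have hbij : Function.Bijective fun z : L => b • z := by
    simp only [Algebra.smul_def]
    exact IsUnit.isUnit_iff_mulLeft_bijective.1 hu
  rw [fin_iff_trSub J (Algebra.linearMap D L) hι b hbJ hbij]
  have hcan : ∀ (k : ℕ) {x y : L}, algebraMap D L b ^ k * x = algebraMap D L b ^ k * y → x = y :=
    fun k x y h => (hu.pow k).mul_left_cancel h
  constructor
  · intro hfin
    obtain ⟨G, hG⟩ := (Module.Finite.iff_fg.1 hfin : (trSub J (Algebra.linearMap D L)).FG)
    have hex : ∀ g : L, ∃ c, ∃ w : D, algebraMap D L b ^ c * g = algebraMap D L w := fun g => by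
      obtain ⟨⟨w, ⟨_, c, rfl⟩⟩, hw⟩ := IsLocalization.surj (Submonoid.powers b) g
      exact ⟨c, w, by rw [← hw, ← map_pow, mul_comm]⟩
    choose c w hw using hex
    let N := G.sup c
    have hN : ∀ z ∈ trSub J (Algebra.linearMap D L), ∃ v : D, algebraMap D L b ^ N * z = algebraMap D L v := by
      intro z hz
      rw [← hG] at hz
      induction hz using Submodule.span_induction with
      | mem g hg =>
        refine ⟨b ^ (N - c g) * w g, ?_⟩
        rw [map_mul, map_pow, ← hw, ← mul_assoc, ← pow_add, Nat.sub_add_cancel (Finset.le_sup hg)]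
      | zero => exact ⟨0, by simp⟩
      | add x y _ _ hx hy =>
        obtain ⟨v, hv⟩ := hx
        obtain ⟨v', hv'⟩ := hy
        exact ⟨v + v', by rw [mul_add, map_add, hv, hv']⟩
      | smul a x _ hx =>
        obtain ⟨v, hv⟩ := hx
        exact ⟨a * v, by rw [Algebra.smul_def, mul_left_comm, hv, map_mul]⟩
    refine ⟨N, fun n x hx => ?_⟩
    rcases le_or_gt n N with hn | hn
    · rw [Nat.sub_eq_zero_of_le hn, pow_zero]; exact one_dvd x
    obtain ⟨u, hu'⟩ := (hu.pow n)
    let z : L := (↑u⁻¹ : L) * algebraMap D L x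
    have hz : algebraMap D L b ^ n * z = algebraMap D L x := by
      show _ * (_ * _) = _
      rw [← mul_assoc, ← hu', Units.mul_inv, one_mul]
    have hmem : z ∈ trSub J (Algebra.linearMap D L) := ⟨n, fun a ha => by
      obtain ⟨e, he⟩ := hx a ha
      refine ⟨e, hcan n ?_⟩
      rw [Algebra.linearMap_apply, Algebra.smul_def, mul_left_comm, hz, ← map_pow, ← map_mul, ← map_mul, he]⟩
    obtain ⟨v, hv⟩ := hN z hmem
    refine ⟨v, hι ?_⟩
    rw [map_mul, ← hv, ← mul_assoc, map_pow, ← pow_add, Nat.sub_add_cancel hn.le, hz]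
  · rintro ⟨N, hN⟩
    have hle : ∀ z ∈ trSub J (Algebra.linearMap D L), b ^ N • z ∈ LinearMap.range (Algebra.linearMap D L) := by
      rintro z ⟨n, hn⟩
      obtain ⟨⟨w, ⟨_, c, rfl⟩⟩, hw⟩ := IsLocalization.surj (Submonoid.powers b) z
      let m := n + c + N
      have hz : algebraMap D L b ^ m * z = algebraMap D L (b ^ (n + N) * w) := by
        rw [map_mul, map_pow, ← hw]
        show _ = _ * (z * algebraMap D L (b ^ c))
        rw [map_pow, mul_comm z, ← mul_assoc, ← pow_add]
        congr 2; omega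
      obtain ⟨v, hv⟩ := hN m (b ^ (n + N) * w) fun a ha => by
        obtain ⟨e, he⟩ := hn a (Ideal.pow_le_pow_right (by omega : n ≤ m) ha)
        refine ⟨e, hι ?_⟩
        have he' : algebraMap D L e = algebraMap D L a * z := he.trans (Algebra.smul_def a z)
        rw [map_mul (algebraMap D L) a, ← hz, map_mul (algebraMap D L) (b ^ m), he', map_pow]
        ring
      refine ⟨v, hcan (m - N) ?_⟩
      rw [Algebra.linearMap_apply, Algebra.smul_def, map_pow, ← mul_assoc, ← pow_add,
        Nat.sub_add_cancel (show N ≤ m by omega), hz, hv, map_mul, map_pow]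
    let f : trSub J (Algebra.linearMap D L) →ₗ[D] LinearMap.range (Algebra.linearMap D L) :=
      { toFun := fun z => ⟨b ^ N • (z : L), hle z z.2⟩
        map_add' := fun x y => Subtype.ext (smul_add _ _ _)
        map_smul' := fun a x => Subtype.ext (smul_comm _ _ _) }
    haveI : IsNoetherian D (LinearMap.range (Algebra.linearMap D L)) := isNoetherian_of_isNoetherianRing_of_finite D _
    refine Module.Finite.of_injective f fun x y h => Subtype.ext (hcan N ?_)
    have h' := congrArg Subtype.val h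
    simpa only [f, LinearMap.coe_mk, AddHom.coe_mk, Algebra.smul_def, map_pow] using h'

theorem bd_iff {D D' : Type u} [CommRing D] [CommRing D'] [Algebra D D'] [IsNoetherianRing D]
    [Module.FaithfullyFlat D D'] (J : Ideal D) (b : D) :
    Bd D' (J.map (algebraMap D D')) (algebraMap D D' b) ↔ Bd D J b := by
  have hdvd : ∀ a x : D, algebraMap D D' a ∣ algebraMap D D' x → a ∣ x := fun a x h => by
    rw [← Ideal.mem_span_singleton] at h ⊢
    rw [← Ideal.comap_map_eq_self_of_faithfullyFlat (B := D') (Ideal.span {a}), Ideal.mem_comap, Ideal.map_span,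
      Set.image_singleton]
    exact h
  refine exists_congr fun N => ⟨fun h n x hx => ?_, fun h n x hx => ?_⟩
  · refine hdvd _ _ ?_
    rw [map_pow]
    refine h n _ fun c hc => ?_
    rw [← Ideal.map_pow] at hc
    induction hc using Submodule.span_induction with
    | mem c hc =>
      obtain ⟨c, hc, rfl⟩ := hc
      rw [← map_pow, ← map_mul]
      exact map_dvd _ (hx c hc)
    | zero => simp
    | add y z _ _ hy hz => rw [add_mul]; exact dvd_add hy hz
    | smul a y _ hy => rw [smul_eq_mul, mul_assoc]; exact dvd_mul_of_dvd_right hy a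
  · obtain ⟨r, cs, hcs⟩ := Submodule.fg_iff_exists_fin_generating_family.1 (IsNoetherian.noetherian (J ^ n))
    obtain ⟨k, t, y, hxy, hdv⟩ := Cohen.mem_map_colon cs (b ^ n) x fun i => by
      rw [map_pow]
      exact hx _ (by rw [← Ideal.map_pow]; exact Ideal.mem_map_of_mem _ (hcs ▸ Submodule.subset_span ⟨i, rfl⟩))
    rw [hxy]
    refine Finset.dvd_sum fun j _ => Dvd.dvd.mul_right ?_ _
    rw [← map_pow]
    refine map_dvd _ (h n (t j) fun c hc => ?_)
    rw [← hcs] at hc
    induction hc using Submodule.span_induction with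
    | mem c hc => obtain ⟨i, rfl⟩ := hc; exact hdv i j
    | zero => simp
    | add y z _ _ hy hz => rw [add_mul]; exact dvd_add hy hz
    | smul a y _ hy => rw [smul_eq_mul, mul_assoc]; exact dvd_mul_of_dvd_right hy a

theorem mem_associatedPrimes_quotient {B : Type u} [CommRing B] [IsNoetherianRing B] (I P : Ideal B) :
    P ∈ associatedPrimes B (B ⧸ I) ↔
      ∃ Q ∈ associatedPrimes (B ⧸ I) (B ⧸ I), Q.comap (Ideal.Quotient.mk I) = P := by
  have key : ∀ w : B ⧸ I, (⊥ : Submodule B (B ⧸ I)).colon {w} =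
      ((⊥ : Submodule (B ⧸ I) (B ⧸ I)).colon {w}).comap (Ideal.Quotient.mk I) := fun w => by
    ext a
    rw [Ideal.mem_comap, Submodule.mem_colon_singleton, Submodule.mem_colon_singleton, Submodule.mem_bot,
      Submodule.mem_bot, Algebra.smul_def, Ideal.Quotient.algebraMap_eq, smul_eq_mul]
  simp only [AssociatedPrimes.mem_iff, isAssociatedPrime_iff]
  constructor
  · rintro ⟨hP, w, rfl⟩
    refine ⟨_, ⟨?_, w, rfl⟩, (key w).symm⟩
    rw [key] at hP
    have h := Ideal.map_isPrime_of_surjective (f := Ideal.Quotient.mk I) Ideal.Quotient.mk_surjective (H := hP)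
      (Ideal.comap_mono bot_le)
    rwa [Ideal.map_comap_of_surjective _ Ideal.Quotient.mk_surjective] at h
  · rintro ⟨Q, ⟨hQ, w, rfl⟩, rfl⟩
    exact ⟨Ideal.IsPrime.comap _, w, (key w).symm⟩

theorem push_iff_domain {A : Type u} [CommRing A] [IsNoetherianRing A] [IsLocalRing A] (p : Ideal A) [p.IsPrime]
    (hp : ¬ maximalIdeal A ≤ p) :
    EGA4.IsCoherentPushCompl (A ⧸ p) ((maximalIdeal A).map (Ideal.Quotient.mk p)) (A ⧸ p) ↔
      ∀ P ∈ associatedPrimes (EGA4.Cpl A) (EGA4.Cpl A ⧸ p.map (algebraMap A (EGA4.Cpl A))),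
        P ≠ maximalIdeal (EGA4.Cpl A) → (2 : WithBot ℕ∞) ≤ ringKrullDim (EGA4.Cpl A ⧸ P) := by
  let B := EGA4.Cpl A
  haveI : IsNoetherianRing B := AdicBasics.isNoetherianRing_completion A
  haveI : Module.Flat A B := AdicCompletion.flat_of_isNoetherian _
  haveI : IsLocalHom (algebraMap A B) := inferInstance
  haveI : IsAdicComplete (maximalIdeal B) B := by infer_instance
  have hB : CAlg.IsUniversallyCatenary B ∧ CAlg.IsUniversallyJapanese B :=
    ⟨Cohen.isUniversallyCatenary_of_complete B, ((S0567.result B).1 (S0568.result B)).2⟩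
  let I := p.map (algebraMap A B)
  let D := A ⧸ p
  let D' := B ⧸ I
  have hI : I ≤ maximalIdeal B := by
    rw [Ideal.map_le_iff_le_comap, IsLocalRing.maximalIdeal_comap]
    exact le_maximalIdeal (Ideal.IsPrime.ne_top ‹_›)
  haveI : Nontrivial D' := Ideal.Quotient.nontrivial_iff.2 fun h => (maximalIdeal.isMaximal B).ne_top (top_le_iff.1 (h ▸ hI))
  haveI : IsLocalRing D' := IsLocalRing.of_surjective' _ Ideal.Quotient.mk_surjective
  haveI : Module.Flat D D' := Module.Flat.of_linearEquiv (Algebra.TensorProduct.quotIdealMapEquivQuotTensor B p).toLinearEquiv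
  haveI : IsLocalRing D := IsLocalRing.of_surjective' _ Ideal.Quotient.mk_surjective
  haveI : IsLocalHom (Ideal.Quotient.mk I) := IsLocalHom.of_surjective _ Ideal.Quotient.mk_surjective
  haveI : IsLocalHom (algebraMap D D') := ⟨fun a ha => by
    obtain ⟨a, rfl⟩ := Ideal.Quotient.mk_surjective a
    by_contra hn
    have hm : a ∈ maximalIdeal A := fun h => hn (h.map _)
    have h2 : Ideal.Quotient.mk I (algebraMap A B a) ∈ maximalIdeal D' := by
      intro h
      have := (IsLocalHom.map_nonunit (f := Ideal.Quotient.mk I) _ h)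
      exact hm (IsLocalHom.map_nonunit (f := algebraMap A B) _ this)
    exact h2 ha⟩
  haveI : Module.FaithfullyFlat D D' := Module.FaithfullyFlat.of_flat_of_isLocalHom
  obtain ⟨f₀, hf, hfp⟩ := SetLike.not_le_iff_exists.1 hp
  set b : D := Ideal.Quotient.mk p f₀
  have hb0 : b ≠ 0 := fun h => hfp (Ideal.Quotient.eq_zero_iff_mem.1 h)
  have hb : b ∈ nonZeroDivisors D := mem_nonZeroDivisors_of_ne_zero hb0
  have hbJ : b ∈ (maximalIdeal A).map (Ideal.Quotient.mk p) := Ideal.mem_map_of_mem _ hf
  have hb' : algebraMap D D' b ∈ nonZeroDivisors D' := by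
    rw [mem_nonZeroDivisors_iff_right]
    intro z hz
    have : IsSMulRegular D' b := IsSMulRegular.of_flat (S := D') (isSMulRegular_iff_right_eq_zero_of_smul.2 fun c hc => (smul_eq_zero.1 hc).resolve_left hb0 : IsSMulRegular D b)
    exact this.right_eq_zero_of_smul (by rw [Algebra.smul_def, mul_comm]; exact hz)
  rw [push_iff, fin_iff_bd _ b hbJ hb, ← bd_iff (D' := D') _ b,
    ← fin_iff_bd _ _ (Ideal.mem_map_of_mem _ hbJ) hb', ← push_iff]
  have hJ : ((maximalIdeal A).map (Ideal.Quotient.mk p)).map (algebraMap D D') = maximalIdeal D' := by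
    rw [Ideal.map_map, show (algebraMap D D').comp (Ideal.Quotient.mk p) = (Ideal.Quotient.mk I).comp (algebraMap A B) from rfl,
      ← Ideal.map_map, ← AdicCompletion.maximalIdeal_eq_map]
    exact IsLocalRing.map_maximalIdeal_of_surjective _ Ideal.Quotient.mk_surjective
  rw [hJ]
  have hdim : ∀ (Q : Ideal D') [Q.IsPrime], ((maximalIdeal D').map (Ideal.Quotient.mk Q)).height =
      (maximalIdeal (D' ⧸ Q) : Ideal (D' ⧸ Q)).height := fun Q _ => by
    rw [IsLocalRing.map_maximalIdeal_of_surjective _ Ideal.Quotient.mk_surjective]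
  have hD' : CAlg.IsUniversallyCatenary D' ∧ CAlg.IsUniversallyJapanese D' := by
    exact ⟨Catenary.isUniversallyCatenary_of_finiteType (A := B) hB.1, Nagata.isUniversallyJapanese_of_finiteType (R := B) hB.2⟩
  constructor
  · intro h P hP hPm
    obtain ⟨Q, hQ, rfl⟩ := (mem_associatedPrimes_quotient I P).1 hP
    haveI := (AssociatedPrimes.mem_iff.1 hQ).isPrime
    have hne : ¬ maximalIdeal D' ≤ Q := fun hle => hPm (le_antisymm (le_maximalIdeal (Ideal.IsPrime.ne_top (Ideal.IsPrime.comap _)))
      ((Ideal.comap_mono hle).trans' (le_of_eq (IsLocalRing.maximalIdeal_comap (Ideal.Quotient.mk I)).symm)))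
    have h2 := two_le_height (maximalIdeal D') D' h Q hQ hne
    rw [hdim Q] at h2
    have h3 : (2 : WithBot ℕ∞) ≤ ringKrullDim (D' ⧸ Q) := by
      rw [← IsLocalRing.maximalIdeal_height_eq_ringKrullDim]; exact WithBot.coe_le_coe.2 h2
    refine h3.trans_eq ?_
    exact (ringKrullDim_eq_of_ringEquiv (RingHom.quotientKerEquivOfSurjective
      (f := (Ideal.Quotient.mk Q).comp (Ideal.Quotient.mk I))
      (Ideal.Quotient.mk_surjective.comp Ideal.Quotient.mk_surjective))).symm.trans
      (ringKrullDim_eq_of_ringEquiv (Ideal.quotEquivOfEq (by rw [← RingHom.comap_ker, Ideal.mk_ker])))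
  · intro h
    refine push_of_two_le_height hD' _ _ fun Q hQ hne => ?_
    haveI := (AssociatedPrimes.mem_iff.1 hQ).isPrime
    have h3 := h _ ((mem_associatedPrimes_quotient I _).2 ⟨Q, hQ, rfl⟩) fun he => hne fun z hz => by
      obtain ⟨z, rfl⟩ := Ideal.Quotient.mk_surjective z
      rw [← Ideal.mem_comap, he, ← IsLocalRing.maximalIdeal_comap (Ideal.Quotient.mk I), Ideal.mem_comap]
      exact hz
    rw [hdim Q]
    have e : ringKrullDim (B ⧸ Q.comap (Ideal.Quotient.mk I)) = ringKrullDim (D' ⧸ Q) :=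
      ((ringKrullDim_eq_of_ringEquiv (RingHom.quotientKerEquivOfSurjective
      (f := (Ideal.Quotient.mk Q).comp (Ideal.Quotient.mk I))
      (Ideal.Quotient.mk_surjective.comp Ideal.Quotient.mk_surjective))).symm.trans
      (ringKrullDim_eq_of_ringEquiv (Ideal.quotEquivOfEq (by rw [← RingHom.comap_ker, Ideal.mk_ker])))).symm
    rw [e, ← IsLocalRing.maximalIdeal_height_eq_ringKrullDim] at h3
    exact WithBot.coe_le_coe.1 h3

open TensorProduct in
theorem push_iff_cpl {A : Type u} [CommRing A] [IsNoetherianRing A] [IsLocalRing A]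
    (M : Type u) [AddCommGroup M] [Module A M] [Module.Finite A M] :
    EGA4.IsCoherentPushCompl A (maximalIdeal A) M ↔
      ∀ P ∈ associatedPrimes (EGA4.Cpl A) ((EGA4.Cpl A) ⊗[A] M),
        P ≠ maximalIdeal (EGA4.Cpl A) → (2 : WithBot ℕ∞) ≤ ringKrullDim (EGA4.Cpl A ⧸ P) := by
  haveI : IsNoetherianRing (EGA4.Cpl A) := AdicBasics.isNoetherianRing_completion A
  haveI : Module.Flat A (EGA4.Cpl A) := AdicCompletion.flat_of_isNoetherian _
  rw [push_iff_associated, S2069.result]
  have hq : ∀ p : Ideal A, (p.map (algebraMap A (EGA4.Cpl A)) • ⊤ : Submodule (EGA4.Cpl A) (EGA4.Cpl A)) =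
      p.map (algebraMap A (EGA4.Cpl A)) := fun p => by rw [smul_eq_mul, Ideal.mul_top]
  constructor
  · intro h P hP hPm
    simp only [Set.mem_iUnion] at hP
    obtain ⟨p, hp, hP⟩ := hP
    rw [hq] at hP
    haveI := (AssociatedPrimes.mem_iff.1 hp).isPrime
    by_cases hpm : maximalIdeal A ≤ p
    · have hle : (p.map (algebraMap A (EGA4.Cpl A))) ≤ P := by
        obtain ⟨Q, -, rfl⟩ := (mem_associatedPrimes_quotient _ P).1 hP
        exact fun z hz => by rw [Ideal.mem_comap, Ideal.Quotient.eq_zero_iff_mem.2 hz]; exact zero_mem _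
      haveI := (AssociatedPrimes.mem_iff.1 hP).isPrime
      refine absurd (le_antisymm (le_maximalIdeal (Ideal.IsPrime.ne_top ‹_›)) ?_) hPm
      rw [AdicCompletion.maximalIdeal_eq_map]
      exact (Ideal.map_mono hpm).trans hle
    · exact (push_iff_domain p hpm).1 (h p hp hpm) P hP hPm
  · intro h p hp hpm
    haveI := (AssociatedPrimes.mem_iff.1 hp).isPrime
    refine (push_iff_domain p hpm).2 fun P hP => h P ?_
    simp only [Set.mem_iUnion]
    exact ⟨p, hp, by rw [hq]; exact hP⟩

end Groth.Agent.Easy4.PushFin
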