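import Groth.Agent.Easy4.Hyperplane
import Groth.Agent.FibDepth.SkAlg
import Groth.Agent.Goren.LCI
import Groth.Agent.RegLocus.Basic
import Groth.Agent.S0560
import Groth.Agent.S0602
import Mathlib

/-! `(R_k)`, reducedness and equidimensionality from a hyperplane section of a local ring. -/

set_option autoImplicit false
set_option maxSynthPendingDepth 3

namespace Groth.Agent.Easy4.Hyperplane

universe u

open IsLocalRing

variable {A : Type u} [CommRing A] [IsNoetherianRing A] {t : A}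

theorem nat_succ_le_cast {a k : ℕ} (h : ((a + 1 : ℕ) : WithBot ℕ∞) ≤ ((k + 1 : ℕ) : WithBot ℕ∞)) : a ≤ k := by
  rw [cast_le_iff] at h
  omega

theorem regular_at (k : ℕ) (hreg : t ∈ nonZeroDivisors A) (hR : LocCoh.HasRk k (A ⧸ Ideal.span {t}))
    (p : Ideal A) [p.IsPrime] (htp : t ∈ p) (hp : p.height ≤ (k + 1 : ℕ)) :
    IsRegularLocalRing (Localization.AtPrime p) := by
  set I := Ideal.span {t}
  have hIp : I ≤ p := (Ideal.span_singleton_le_iff_mem _).2 htp
  set q := p.map (Ideal.Quotient.mk I)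
  haveI : q.IsPrime := Ideal.map_isPrime_of_surjective Ideal.Quotient.mk_surjective (by rwa [Ideal.mk_ker])
  have hqp : q.comap (Ideal.Quotient.mk I) = p := by
    rw [Ideal.comap_map_of_surjective' _ Ideal.Quotient.mk_surjective, Ideal.mk_ker, sup_eq_left.2 hIp]
  suffices key : ∀ (p' : Ideal A) [p'.IsPrime], q.comap (Ideal.Quotient.mk I) = p' →
      p'.height ≤ (k + 1 : ℕ) → t ∈ p' → IsRegularLocalRing (Localization.AtPrime p') from key p hqp hp htp
  intro p' _ hp' hh htp'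
  subst hp'
  obtain ⟨e⟩ := Goren.quot_localization A I q
  haveI : IsNoetherianRing (Localization.AtPrime (q.comap (Ideal.Quotient.mk I))) :=
    IsLocalization.isNoetherianRing (q.comap (Ideal.Quotient.mk I)).primeCompl _ inferInstance
  set T := Localization.AtPrime (q.comap (Ideal.Quotient.mk I))
  have hm : algebraMap A T t ∈ maximalIdeal T := (IsLocalization.AtPrime.to_map_mem_maximal_iff _ (q.comap (Ideal.Quotient.mk I)) t).2 htp'
  have hnz : algebraMap A T t ∈ nonZeroDivisors T :=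
    IsLocalization.map_nonZeroDivisors_le (q.comap (Ideal.Quotient.mk I)).primeCompl T (Submonoid.mem_map_of_mem _ hreg)
  have e' : (T ⧸ Ideal.span {algebraMap A T t}) ≃+* Localization.AtPrime q :=
    (Ideal.quotEquivOfEq (by rw [Ideal.map_span, Set.image_singleton])).trans e
  have hd := ringKrullDim_quotient_span_singleton_succ_eq_ringKrullDim_of_mem_nonZeroDivisors hnz hm
  rw [ringKrullDim_eq_of_ringEquiv e', IsLocalization.AtPrime.ringKrullDim_eq_height q (Localization.AtPrime q),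
    IsLocalization.AtPrime.ringKrullDim_eq_height (q.comap (Ideal.Quotient.mk I)) T] at hd
  obtain ⟨a, ha⟩ := ENat.ne_top_iff_exists.1 (q.height_ne_top (Ideal.IsPrime.ne_top ‹_›))
  have hle : q.height ≤ k := by
    have h1 : (q.height : WithBot ℕ∞) + 1 ≤ ((k + 1 : ℕ) : WithBot ℕ∞) := hd.trans_le (WithBot.coe_le_coe.2 hh)
    rw [← ha] at h1 ⊢
    exact Nat.cast_le.2 (nat_succ_le_cast (by simpa only [Nat.cast_add, Nat.cast_one] using! h1))
  haveI := hR q hle
  haveI : IsRegularLocalRing (T ⧸ Ideal.span {algebraMap A T t}) := IsRegularLocalRing.of_ringEquiv e'.symm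
  exact S0560.result T _ hm hnz

variable [IsLocalRing A]

theorem hasRk (hcat : CAlg.IsCatenary A) (heq : EGA4.IsEquidim A) (k : ℕ) (ht : t ∈ maximalIdeal A)
    (hreg : t ∈ nonZeroDivisors A) (hR : LocCoh.HasRk k (A ⧸ Ideal.span {t})) : LocCoh.HasRk k A := by
  intro p _ hp
  by_cases htp : t ∈ p
  · exact regular_at k hreg hR p htp (hp.trans (by simp))
  obtain ⟨q, hq, -, hpq, htq, hht⟩ := exists_over ht htp
  refine RegLocus.mem_regLocus_of_le (P := ⟨p, ‹_›⟩) (Q := ⟨q, hq⟩) hpq.le (regular_at k hreg hR q htq ?_)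
  have h1 := Catenary.dim_equidim_add hcat heq p
  have h2 := Catenary.dim_equidim_add hcat heq q
  haveI : Nontrivial (A ⧸ p) := Ideal.Quotient.nontrivial_iff.mpr (Ideal.IsPrime.ne_top ‹_›)
  haveI : IsLocalRing (A ⧸ p) := IsLocalRing.of_surjective' _ Ideal.Quotient.mk_surjective
  haveI : (q.map (Ideal.Quotient.mk p)).IsPrime :=
    Ideal.map_isPrime_of_surjective Ideal.Quotient.mk_surjective (by rw [Ideal.mk_ker]; exact hpq.le)
  have h3 := Catenary.dim_domain_add (Catenary.isCatenary_of_surjective _ Ideal.Quotient.mk_surjective hcat) (q.map (Ideal.Quotient.mk p))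
  rw [ringKrullDim_eq_of_ringEquiv (DoubleQuot.quotQuotEquivQuotOfLE hpq.le), hht] at h3
  obtain ⟨a, ha⟩ := ENat.ne_top_iff_exists.1 (p.height_ne_top (Ideal.IsPrime.ne_top ‹_›))
  obtain ⟨b, hb⟩ := ENat.ne_top_iff_exists.1 (q.height_ne_top hq.ne_top)
  obtain ⟨n, hn⟩ := SerreReg.exists_dim_nat (A ⧸ q)
  obtain ⟨D, hD⟩ := SerreReg.exists_dim_nat A
  rw [← ha] at hp h1; rw [← hb] at h2 ⊢
  rw [← h3] at h1
  rw [hn, hD] at h1 h2
  have h1' : ((n + 1 + a : ℕ) : WithBot ℕ∞) = (D : WithBot ℕ∞) := by exact_mod_cast h1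
  have h2' : ((n + b : ℕ) : WithBot ℕ∞) = (D : WithBot ℕ∞) := by exact_mod_cast h2
  have h1'' := le_antisymm ((cast_le_iff _ _).1 h1'.le) ((cast_le_iff _ _).1 h1'.ge)
  have h2'' := le_antisymm ((cast_le_iff _ _).1 h2'.le) ((cast_le_iff _ _).1 h2'.ge)
  rw [Nat.cast_le] at hp ⊢
  omega

theorem hasSk_ring (k : ℕ) (ht : t ∈ maximalIdeal A) (hreg : t ∈ nonZeroDivisors A)
    (hS : LocCoh.HasSk k (A ⧸ Ideal.span {t}) (A ⧸ Ideal.span {t})) :
    LocCoh.HasSk k A (QuotSMulTop t A) ∧ LocCoh.HasSk k A A := by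
  have e : (A ⧸ Ideal.span {t}) ≃ₗ[A] QuotSMulTop t A := Submodule.quotEquivOfEq _ _ (by
    rw [← Submodule.ideal_span_singleton_smul, smul_eq_mul, Ideal.mul_top])
  have h := FibDepth.hasSk_congr e k ((FibDepth.hasSk_iff_of_surjective (T := A) (R := A ⧸ Ideal.span {t}) Ideal.Quotient.mk_surjective _ k).2 hS)
  exact ⟨h, hasSk k t ht (isSMulRegular_iff_right_eq_zero_of_smul.2 fun a ha =>
    mem_nonZeroDivisors_iff_right.1 hreg a (by rw [mul_comm]; exact ha)) h⟩

theorem isEquidim_ring (hcat : CAlg.IsCatenary A) (ht : t ∈ maximalIdeal A) (hreg : t ∈ nonZeroDivisors A)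
    (heq : EGA4.IsEquidim (A ⧸ Ideal.span {t})) (hS : LocCoh.HasSk 1 (A ⧸ Ideal.span {t}) (A ⧸ Ideal.span {t})) :
    EGA4.IsEquidim A := by
  have e : (A ⧸ Ideal.span {t}) ≃ₗ[A] QuotSMulTop t A := Submodule.quotEquivOfEq _ _ (by
    rw [← Submodule.ideal_span_singleton_smul, smul_eq_mul, Ideal.mul_top])
  have heq' : EGA4.IsEquidimModule A (QuotSMulTop t A) := FibDepth.isEquidimModule_congr e fun p hp => by
    rw [Ideal.annihilator_quotient] at hp
    rw [Module.supportDim_quotient_eq_ringKrullDim]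
    exact (Catenary.isEquidim_quotient_iff _).1 heq p hp
  have h := isEquidim hcat 1 le_rfl t ht (isSMulRegular_iff_right_eq_zero_of_smul.2 fun a ha =>
    mem_nonZeroDivisors_iff_right.1 hreg a (by rw [mul_comm]; exact ha)) heq' (hasSk_ring 1 ht hreg hS).1
  intro p hp
  have := h p (by rwa [show Module.annihilator A A = (⊥ : Ideal A) from Module.annihilator_eq_bot.2 inferInstance])
  rwa [Module.supportDim_self_eq_ringKrullDim] at this

theorem reduced_equidim_hasRk (hcat : CAlg.IsCatenary A) (k : ℕ) (ht : t ∈ maximalIdeal A) (hreg : t ∈ nonZeroDivisors A)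
    [IsReduced (A ⧸ Ideal.span {t})] (heq : EGA4.IsEquidim (A ⧸ Ideal.span {t}))
    (hR : LocCoh.HasRk k (A ⧸ Ideal.span {t})) : IsReduced A ∧ EGA4.IsEquidim A ∧ LocCoh.HasRk k A := by
  obtain ⟨-, hS⟩ := (S0602.result (A ⧸ Ideal.span {t})).1 inferInstance
  have hA := isEquidim_ring hcat ht hreg heq hS
  have hk := hasRk hcat hA k ht hreg hR
  exact ⟨(S0602.result A).2 ⟨fun p _ hp => hk p (hp.trans (by simp)), (hasSk_ring 1 ht hreg hS).2⟩, hA, hk⟩

end Groth.Agent.Easy4.Hyperplane
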