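import Mathlib

/-! The Picard group of a normal cone is trivial. -/

set_option autoImplicit false

namespace Groth.Agent.Easy4.ConePic

universe u

open Polynomial

theorem mem_range_of_valuationSubring {A K : Type u} [CommRing A] [IsDomain A] [IsIntegrallyClosed A] [Field K] [Algebra A K]
    [IsFractionRing A K] {x : K}
    (h : ∀ V : ValuationSubring K, Set.range (algebraMap A K) ⊆ V.toSubring → x ∈ V) :
    x ∈ (algebraMap A K).range := by
  have hx : x ∈ (⨅ V : {V : ValuationSubring K // Set.range (algebraMap A K) ⊆ V.toSubring}, V.1.toSubring) :=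
    Subring.mem_iInf.2 fun V => h V.1 V.2
  rw [iInf_valuationSubring_superset] at hx
  obtain ⟨p, hp, hpx⟩ := hx
  let φ : A →+* Subring.closure (Set.range (algebraMap A K)) :=
    (algebraMap A K).codRestrict _ fun a => Subring.subset_closure ⟨a, rfl⟩
  have hφ : Function.Surjective φ := fun y => by
    have : Subring.closure (Set.range (algebraMap A K)) ≤ (algebraMap A K).range := Subring.closure_le.2 subset_rfl
    obtain ⟨a, ha⟩ := this y.2
    exact ⟨a, Subtype.ext ha⟩
  obtain ⟨q, rfl, -, hq⟩ := Polynomial.lifts_and_degree_eq_and_monic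
    (f := φ) (p := p) ((Polynomial.mem_lifts p).2 (Polynomial.map_surjective φ hφ p)) hp
  have hint : IsIntegral A x := ⟨q, hq, by rw [Polynomial.eval₂_map] at hpx; exact hpx⟩
  exact IsIntegrallyClosed.isIntegral_iff.1 hint

theorem coeff_mul_coeff_mem {A K : Type u} [CommRing A] [IsDomain A] [IsIntegrallyClosed A] [Field K] [Algebra A K]
    [IsFractionRing A K] (f g : K[X]) (h : ∀ n, (f * g).coeff n ∈ (algebraMap A K).range) (i j : ℕ) :
    f.coeff i * g.coeff j ∈ (algebraMap A K).range := by
  classical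
  refine mem_range_of_valuationSubring fun V hV => ?_
  rw [← V.valuation_le_one_iff, map_mul]
  have hmax : ∀ p : K[X], ∃ m, (∀ k, V.valuation (p.coeff k) ≤ V.valuation (p.coeff m)) ∧
      ∀ k < m, V.valuation (p.coeff k) < V.valuation (p.coeff m) := by
    intro p
    have hex : ∃ m, ∀ k, V.valuation (p.coeff k) ≤ V.valuation (p.coeff m) := by
      obtain ⟨m, -, hm⟩ := Finset.exists_max_image (Finset.range (p.natDegree + 1)) (fun k => V.valuation (p.coeff k)) (by simp)
      refine ⟨m, fun k => ?_⟩
      by_cases hk : k ∈ Finset.range (p.natDegree + 1)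
      · exact hm k hk
      · rw [p.coeff_eq_zero_of_natDegree_lt (by simpa using hk), map_zero]; exact zero_le
    refine ⟨Nat.find hex, Nat.find_spec hex, fun k hk => lt_of_le_of_ne (Nat.find_spec hex k) fun he => ?_⟩
    exact Nat.find_min hex hk fun l => he ▸ Nat.find_spec hex l
  obtain ⟨a, ha, ha'⟩ := hmax f
  obtain ⟨b, hb, hb'⟩ := hmax g
  refine (mul_le_mul' (ha i) (hb j)).trans ?_
  by_cases hz : V.valuation (f.coeff a) * V.valuation (g.coeff b) = 0
  · rw [hz]; exact zero_le
  obtain ⟨hfa, hgb⟩ := mul_ne_zero_iff.1 hz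
  have hc : V.valuation ((f * g).coeff (a + b)) = V.valuation (f.coeff a * g.coeff b) := by
    rw [Polynomial.coeff_mul]
    refine Valuation.map_sum_eq_of_lt _ (j := (a, b)) (show (a, b) ∈ Finset.HasAntidiagonal.antidiagonal (a + b) from Finset.HasAntidiagonal.mem_antidiagonal.2 rfl) fun p hp => ?_
    obtain ⟨hp, hne⟩ := Finset.mem_sdiff.1 hp
    rw [Finset.HasAntidiagonal.mem_antidiagonal] at hp
    rw [Finset.mem_singleton] at hne
    rw [map_mul, map_mul]
    rcases lt_trichotomy p.1 a with hlt | heq | hgt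
    · exact lt_of_le_of_lt (mul_le_mul_right (hb p.2) _) (mul_lt_mul_of_pos_right (ha' _ hlt) (zero_lt_iff.2 hgb))
    · exact absurd (Prod.ext heq (by omega)) hne
    · exact lt_of_le_of_lt (mul_le_mul_left (ha p.1) _) (mul_lt_mul_of_pos_left (hb' _ (by omega)) (zero_lt_iff.2 hfa))
  rw [← map_mul, ← hc, V.valuation_le_one_iff]
  obtain ⟨c, hc'⟩ := h (a + b)
  exact hV ⟨c, hc'⟩

/-- the abstract form. -/
theorem free_of_contraction {k A : Type u} [Field k] [CommRing A] [IsDomain A] [IsIntegrallyClosed A] [Algebra k A]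
    (φ : A →+* A[X]) (h1 : ∀ a, (φ a).eval 1 = a) (h0 : ∀ a, ∃ c : k, (φ a).eval 0 = algebraMap k A c)
    (M : Type u) [AddCommGroup M] [Module A M] [Module.Invertible A M] : Module.Free A M := by
  classical
  let K := FractionRing A
  haveI : Subsingleton (CommRing.Pic K) := inferInstance
  have hrel : CommRing.Pic.mk A M ∈ CommRing.relPic A K := Subsingleton.elim ..
  obtain ⟨I, hI⟩ := (Submodule.range_unitsToPic A K).symm ▸ hrel
  obtain ⟨e⟩ := CommRing.Pic.mk_eq_mk_iff.1 hI.symm
  -- elements generating the fractional ideal and its inverse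
  have hone : (1 : K) ∈ (I : Submodule A K) * ((I⁻¹ : (Submodule A K)ˣ) : Submodule A K) := by
    rw [Units.mul_inv]; exact Submodule.one_le.1 le_rfl
  rw [Submodule.mul_eq_span_mul_set, Submodule.mem_span_set'] at hone
  obtain ⟨n, r, w, hw⟩ := hone
  choose a ha b hb hab using fun i => Set.mem_mul.1 (w i).2
  let a' : Fin n → K := fun i => r i • a i
  have ha' : ∀ i, a' i ∈ (I : Submodule A K) := fun i => Submodule.smul_mem _ _ (ha i)
  have hsum : ∑ i, a' i * b i = 1 := by
    rw [← hw]; exact Finset.sum_congr rfl fun i _ => by rw [smul_mul_assoc, hab]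
  have hprod : ∀ x ∈ (I : Submodule A K), ∀ j, ∃ c : A, algebraMap A K c = x * b j := fun x hx j => by
    have h2 : x * b j ∈ (1 : Submodule A K) := by
      rw [← Units.mul_inv I]; exact Submodule.mul_mem_mul hx (hb j)
    exact Submodule.mem_one.1 h2
  -- common denominators
  obtain ⟨d, hd⟩ := IsLocalization.exist_integer_multiples_of_finite (nonZeroDivisors A) a'
  obtain ⟨d', hd'⟩ := IsLocalization.exist_integer_multiples_of_finite (nonZeroDivisors A) b
  choose x hx using hd
  choose y hy using hd'
  choose E hE using fun i j => hprod _ (ha' i) j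
  have hinj := IsFractionRing.injective A K
  have hxy : ∀ i j, x i * y j = (d * d' : A) * E i j := fun i j => hinj (by
    rw [map_mul, map_mul, map_mul, hx, hy, hE, Algebra.smul_def, Algebra.smul_def]; ring)
  have hD : (d * d' : A) ≠ 0 := mul_ne_zero (nonZeroDivisors.coe_ne_zero d) (nonZeroDivisors.coe_ne_zero d')
  have hEsum : ∑ i, E i i = 1 := hinj (by
    rw [map_sum, map_one, ← hsum]; exact Finset.sum_congr rfl fun i _ => hE i i)
  have hcross : ∀ i j l, x i * E l j = x l * E i j := fun i j l => mul_left_cancel₀ hD (by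
    linear_combination x l * hxy i j - x i * hxy l j)
  -- over `K[t]`
  let Φ : A →+* K[X] := (Polynomial.mapRingHom (algebraMap A K)).comp φ
  obtain ⟨h, hh⟩ := (IsPrincipalIdealRing.principal (Ideal.span (Set.range fun i => Φ (x i)))).principal
  rw [Ideal.submodule_span_eq] at hh
  choose f hf using fun i => Ideal.mem_span_singleton'.1 (hh ▸ Ideal.subset_span ⟨i, rfl⟩ : Φ (x i) ∈ Ideal.span {h})
  obtain ⟨u, hu⟩ := Ideal.mem_span_range_iff_exists_fun.1
    (hh ▸ Ideal.mem_span_singleton_self h : h ∈ Ideal.span (Set.range fun i => Φ (x i)))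
  let g : Fin n → K[X] := fun j => ∑ l, u l * Φ (E l j)
  have hΦinj : Function.Injective Φ := by
    refine (Polynomial.map_injective _ hinj).comp fun p q hpq => ?_
    rw [← h1 p, ← h1 q, hpq]
  obtain ⟨i₀, hi₀⟩ : ∃ i, x i ≠ 0 := by
    by_contra hall
    push Not at hall
    have : (1 : A) = 0 := by
      rw [← hEsum]
      refine Finset.sum_eq_zero fun i _ => mul_left_cancel₀ hD ?_
      rw [← hxy, hall, zero_mul, mul_zero]
    exact one_ne_zero this
  have hh0 : h ≠ 0 := fun h00 => hi₀ (hΦinj (by rw [← hf, h00, mul_zero, map_zero]))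
  have hfg : ∀ i j, f i * g j = Φ (E i j) := fun i j => mul_left_cancel₀ hh0 (by
    rw [← mul_assoc, mul_comm h, hf]
    conv_rhs => rw [← hu, Finset.sum_mul]
    rw [Finset.mul_sum]
    exact Finset.sum_congr rfl fun l _ => by rw [mul_left_comm, ← map_mul, hcross, map_mul, mul_assoc])
  have hcoef : ∀ i j s t, (f i).coeff s * (g j).coeff t ∈ (algebraMap A K).range := fun i j =>
    coeff_mul_coeff_mem _ _ fun N => by
      rw [hfg]; exact ⟨(φ (E i j)).coeff N, by simp [Φ]⟩
  have hevr : ∀ (i j : Fin n) (s : ℕ), (f i).coeff s * (g j).eval 1 ∈ (algebraMap A K).range ∧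
      (g j).coeff s * (f i).eval 1 ∈ (algebraMap A K).range := fun i j s => by
    rw [Polynomial.eval_eq_sum, Polynomial.eval_eq_sum, Polynomial.sum_def, Polynomial.sum_def, Finset.mul_sum, Finset.mul_sum]
    exact ⟨Subring.sum_mem _ fun t _ => by rw [one_pow, mul_one]; exact hcoef i j s t,
      Subring.sum_mem _ fun t _ => by rw [one_pow, mul_one, mul_comm]; exact hcoef i j t s⟩
  choose c hc using h0
  have hE0 : ∀ i j, (f i).coeff 0 * (g j).coeff 0 = algebraMap A K (algebraMap k A (c (E i j))) := fun i j => by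
    rw [← hc, ← Polynomial.coeff_zero_eq_eval_zero, ← Polynomial.mul_coeff_zero, hfg]
    simp [Φ]
  obtain ⟨j, hj⟩ : ∃ j, c (E j j) ≠ 0 := by
    by_contra hall
    push Not at hall
    have h3 := congrArg (fun p => (φ p).eval 0) hEsum
    simp only [map_sum, Polynomial.eval_finsetSum, map_one, Polynomial.eval_one, hc, hall, map_zero, Finset.sum_const_zero] at h3
    exact zero_ne_one h3
  set z := (f j).coeff 0
  have hz : z ≠ 0 := fun hz0 => by
    have h4 := hE0 j j
    rw [show (f j).coeff 0 = 0 from hz0, zero_mul, eq_comm, map_eq_zero_iff _ hinj, map_eq_zero] at h4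
    exact hj h4
  have hzf : ∀ i, ∃ q : A, (f i).eval 1 = algebraMap A K q * z := fun i => by
    obtain ⟨q, hq⟩ := (hevr i j 0).2
    refine ⟨q * algebraMap k A (c (E j j))⁻¹, ?_⟩
    have hk : algebraMap A K (algebraMap k A (c (E j j))⁻¹) * ((f j).coeff 0 * (g j).coeff 0) = 1 := by
      rw [hE0, ← map_mul, ← map_mul, inv_mul_cancel₀ hj, map_one, map_one]
    rw [map_mul, hq]
    calc (f i).eval 1 = (f i).eval 1 * (algebraMap A K (algebraMap k A (c (E j j))⁻¹) * ((f j).coeff 0 * (g j).coeff 0)) := by
          rw [hk, mul_one]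
      _ = _ := by ring
  choose Q hQ using hzf
  have hE1 : ∀ i j, (f i).eval 1 * (g j).eval 1 = algebraMap A K (E i j) := fun i j => by
    rw [← Polynomial.eval_mul, hfg]
    show ((φ (E i j)).map (algebraMap A K)).eval 1 = _
    rw [← map_one (algebraMap A K), Polynomial.eval_map_apply, h1]
  choose W hW using fun i => (hevr j i 0).1
  have hzsum : z = ∑ i, algebraMap A K (W i) * (f i).eval 1 := by
    calc z = z * ∑ i, (f i).eval 1 * (g i).eval 1 := by
          rw [Finset.sum_congr rfl fun i _ => hE1 i i, ← map_sum, hEsum, map_one, mul_one]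
      _ = _ := by
          rw [Finset.mul_sum]
          refine Finset.sum_congr rfl fun i _ => ?_
          rw [hW]; ring
  have hev : ∀ i, (f i).eval 1 * h.eval 1 = algebraMap A K (x i) := fun i => by
    rw [← Polynomial.eval_mul, hf]
    show ((φ (x i)).map (algebraMap A K)).eval 1 = _
    rw [← map_one (algebraMap A K), Polynomial.eval_map_apply, h1]
  have hdu : algebraMap A K d ≠ 0 := (map_ne_zero_iff _ hinj).2 (nonZeroDivisors.coe_ne_zero d)
  let gen : K := z * h.eval 1 / algebraMap A K d
  have hag : ∀ i, a' i = algebraMap A K (Q i) * gen := fun i => by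
    have h5 : algebraMap A K (x i) = algebraMap A K d * a' i := by rw [hx, Algebra.smul_def]
    rw [← hev, hQ] at h5
    simp only [gen]; rw [mul_div_assoc', eq_div_iff hdu]
    linear_combination -h5
  have hgen : gen ≠ 0 := fun h00 => by
    have : (∑ i, a' i * b i) = 0 := Finset.sum_eq_zero fun i _ => by rw [hag, h00, mul_zero, zero_mul]
    rw [hsum] at this
    exact one_ne_zero this
  have hIgen : (I : Submodule A K) = Submodule.span A {gen} := by
    refine le_antisymm (fun v hv => ?_) ((Submodule.span_singleton_le_iff_mem _ _).2 ?_)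
    · rw [show v = ∑ i, (v * b i) * a' i by simp_rw [mul_assoc, mul_comm (b _), ← Finset.mul_sum, hsum, mul_one]]
      refine Submodule.sum_mem _ fun i _ => ?_
      obtain ⟨cv, hcv⟩ := hprod v hv i
      rw [← hcv, hag, ← mul_assoc, ← map_mul, ← Algebra.smul_def]
      exact Submodule.smul_mem _ _ (Submodule.mem_span_singleton_self _)
    · have h6 : gen = ∑ i, W i • a' i := by
        calc gen = (∑ i, algebraMap A K (W i) * (f i).eval 1) * h.eval 1 / algebraMap A K d := by rw [← hzsum]
          _ = _ := by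
            rw [Finset.sum_mul, Finset.sum_div]
            refine Finset.sum_congr rfl fun i _ => ?_
            rw [mul_assoc, hev, hx, Algebra.smul_def, Algebra.smul_def]
            rw [div_eq_iff hdu]
            ring
      rw [h6]
      exact Submodule.sum_mem _ fun i _ => Submodule.smul_mem _ _ (ha' i)
  exact Module.Free.of_equiv ((LinearEquiv.toSpanNonzeroSingleton A K gen hgen).trans
    ((LinearEquiv.ofEq _ _ hIgen.symm).trans e.symm))

theorem free_of_homogeneous (k : Type u) [Field k] (n : ℕ) (I : Ideal (MvPolynomial (Fin n) k))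
    (hI : ∃ s : Set (MvPolynomial (Fin n) k), (∀ f ∈ s, ∃ d : ℕ, f.IsHomogeneous d) ∧ I = Ideal.span s)
    [IsDomain (MvPolynomial (Fin n) k ⧸ I)] [IsIntegrallyClosed (MvPolynomial (Fin n) k ⧸ I)]
    (M : Type u) [AddCommGroup M] [Module (MvPolynomial (Fin n) k ⧸ I) M]
    [Module.Invertible (MvPolynomial (Fin n) k ⧸ I) M] : Module.Free (MvPolynomial (Fin n) k ⧸ I) M := by
  obtain ⟨s, hs, hIs⟩ := hI
  let A := MvPolynomial (Fin n) k ⧸ I
  let y : Fin n → A := fun i => Ideal.Quotient.mk I (MvPolynomial.X i)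
  let ψ : MvPolynomial (Fin n) k →ₐ[k] A[X] := MvPolynomial.aeval fun i => Polynomial.C (y i) * Polynomial.X
  have hmon : ∀ (d : ℕ) (p : MvPolynomial (Fin n) k), p.IsHomogeneous d →
      ψ p = Polynomial.C (Ideal.Quotient.mk I p) * Polynomial.X ^ d := by
    intro d p hp
    conv_lhs => rw [p.as_sum, map_sum]
    conv_rhs => rw [p.as_sum, map_sum, map_sum, Finset.sum_mul]
    refine Finset.sum_congr rfl fun e he => ?_
    have hdeg : e.degree = d := (Finsupp.degree_eq_weight_one (R := ℕ) ▸ hp (MvPolynomial.mem_support_iff.1 he))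
    have hC : Ideal.Quotient.mk I (MvPolynomial.monomial e (p.coeff e)) = algebraMap k A (p.coeff e) * e.prod fun i l => y i ^ l := by
      rw [MvPolynomial.monomial_eq, map_mul, Finsupp.prod, map_prod]
      simp [y, Finsupp.prod]
      left; rfl
    rw [MvPolynomial.aeval_monomial, hC]
    simp only [Finsupp.prod, map_mul, map_prod, map_pow]
    rw [Finset.prod_congr rfl fun i _ => mul_pow (Polynomial.C (y i)) Polynomial.X (e i), Finset.prod_mul_distrib, Finset.prod_pow_eq_pow_sum, show ∑ i ∈ e.support, e i = d from hdeg, IsScalarTower.algebraMap_apply k A A[X], Polynomial.algebraMap_eq]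
    ring
  have hker : ∀ p ∈ I, ψ p = 0 := by
    intro p hp
    have : I ≤ RingHom.ker ψ := by
      refine hIs.le.trans (Ideal.span_le.2 fun q hq => ?_)
      obtain ⟨d, hd⟩ := hs q hq
      rw [SetLike.mem_coe, RingHom.mem_ker, hmon d q hd, Ideal.Quotient.eq_zero_iff_mem.2 (hIs.ge (Ideal.subset_span hq)),
        map_zero, zero_mul]
    exact this hp
  refine free_of_contraction (k := k) (Ideal.Quotient.lift I ψ.toRingHom hker) (fun a => ?_) (fun a => ?_) M
  · obtain ⟨p, rfl⟩ := Ideal.Quotient.mk_surjective a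
    have : ((Polynomial.aeval (1 : A)).restrictScalars k).comp ψ = Ideal.Quotient.mkₐ k I :=
      MvPolynomial.algHom_ext fun i => by simp [ψ, y]; rfl
    have h3 := DFunLike.congr_fun this p
    simp at h3
    exact h3
  · obtain ⟨p, rfl⟩ := Ideal.Quotient.mk_surjective a
    refine ⟨MvPolynomial.constantCoeff p, ?_⟩
    have : ((Polynomial.aeval (0 : A)).restrictScalars k).comp ψ =
        (Algebra.ofId k A).comp (MvPolynomial.aeval (fun _ : Fin n => (0 : k))) :=
      MvPolynomial.algHom_ext fun i => by simp [ψ]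
    have h2 := DFunLike.congr_fun this p
    rw [AlgHom.comp_apply, AlgHom.comp_apply, MvPolynomial.aeval_zero'] at h2
    simpa using h2

end Groth.Agent.Easy4.ConePic
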