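import Groth.Agent.GenFree.ReducedMain
import Mathlib

/-! Generic exactness on the fibres. -/

set_option autoImplicit false
set_option maxSynthPendingDepth 3

namespace Groth.Agent.Easy4.GenExact

open TensorProduct

universe u

variable {R : Type u} [CommRing R]

theorem cancel_natural {S T : Type u} [CommRing S] [CommRing T] [Algebra R S] [Algebra R T] [Algebra S T]
    [IsScalarTower R S T] {M N : Type u} [AddCommGroup M] [Module R M] [AddCommGroup N] [Module R N]
    (w : M →ₗ[R] N) (y : T ⊗[S] (S ⊗[R] M)) :
    TensorProduct.AlgebraTensorModule.cancelBaseChange R S T T N ((w.baseChange S).lTensor T y) =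
      w.baseChange T (TensorProduct.AlgebraTensorModule.cancelBaseChange R S T T M y) := by
  induction y with
  | zero => simp
  | add p q hp hq => simp only [map_add, hp, hq]
  | tmul t z =>
    induction z with
    | zero => simp
    | add p q hp hq => simp only [TensorProduct.tmul_add, map_add, hp, hq]
    | tmul s m => simp

theorem injective_of_free_away {S K T : Type u} [CommRing S] [CommRing K] [CommRing T] [Algebra R S] [Algebra R K]
    [Algebra R T] [Algebra S K] [IsScalarTower R S K] [Algebra S T] [IsScalarTower R S T]
    (hSK : Function.Injective (algebraMap S K))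
    {M N : Type u} [AddCommGroup M] [Module R M] [AddCommGroup N] [Module R N] (w : M →ₗ[R] N)
    [Module.Flat S (S ⊗[R] M)] [Module.Flat S (S ⊗[R] (N ⧸ LinearMap.range w))]
    (hK : Function.Injective (w.baseChange K)) : Function.Injective (w.baseChange T) := by
  have hι : Function.Injective (fun z : S ⊗[R] M => (1 : K) ⊗ₜ[S] z) := by
    have h1 : Function.Injective ((Algebra.linearMap S K).rTensor (S ⊗[R] M)) :=
      Module.Flat.rTensor_preserves_injective_linearMap (Algebra.linearMap S K) hSK
    have h2 := h1.comp (TensorProduct.lid S (S ⊗[R] M)).symm.injective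
    convert h2 using 1
    funext z
    simp
  have hS : Function.Injective (w.baseChange S) := by
    rw [injective_iff_map_eq_zero]
    intro z hz
    apply hι
    show (1 : K) ⊗ₜ[S] z = (1 : K) ⊗ₜ[S] (0 : S ⊗[R] M)
    rw [TensorProduct.tmul_zero]
    apply (TensorProduct.AlgebraTensorModule.cancelBaseChange R S K K M).injective
    apply hK
    rw [← cancel_natural, LinearMap.lTensor_tmul, hz]
    simp
  have hex : Function.Exact (w.baseChange S) ((LinearMap.range w).mkQ.baseChange S) := by
    rw [LinearMap.baseChange_eq_ltensor, LinearMap.baseChange_eq_ltensor]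
    exact lTensor_exact S (LinearMap.exact_map_mkQ_range w) (Submodule.mkQ_surjective _)
  have hsurj : Function.Surjective ((LinearMap.range w).mkQ.baseChange S) := by
    rw [LinearMap.baseChange_eq_ltensor]
    exact LinearMap.lTensor_surjective S (Submodule.mkQ_surjective _)
  have h := LinearMap.lTensor_injective_of_exact_of_flat (R := S) ((LinearMap.range w).mkQ.baseChange S) hsurj _ hS hex T
  rw [injective_iff_map_eq_zero]
  intro y hy
  obtain ⟨y', rfl⟩ := (TensorProduct.AlgebraTensorModule.cancelBaseChange R S T T M).surjective y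
  rw [← cancel_natural, LinearEquiv.map_eq_zero_iff] at hy
  rw [h (hy.trans (map_zero _).symm), map_zero]

theorem smul_eq_zero_iff_of_isUnit (T : Type u) [CommRing T] [Algebra R T] {H : Type u} [AddCommGroup H] [Module R H]
    {g : R} (hu : IsUnit (algebraMap R T g)) (z : T ⊗[R] H) : g • z = 0 ↔ z = 0 := by
  refine ⟨fun h => ?_, fun h => by rw [h, smul_zero]⟩
  rw [← algebraMap_smul T g] at h
  exact hu.smul_eq_zero.1 h

section
variable (T : Type u) [CommRing T] [Algebra R T] {F G C H : Type u} [AddCommGroup F] [Module R F] [AddCommGroup G]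
  [Module R G] [AddCommGroup C] [Module R C] [AddCommGroup H] [Module R H]
  (u : F →ₗ[R] G) (π : G →ₗ[R] C) (hπ : Function.Exact u π) (hs : Function.Surjective π)
  (v : G →ₗ[R] H) (w : C →ₗ[R] H) {g : R} (hw : ∀ x, w (π x) = g • v x)

include hw in
theorem baseChange_w (y : T ⊗[R] G) : w.baseChange T (π.baseChange T y) = g • v.baseChange T y := by
  induction y with
  | zero => simp
  | add a b ha hb => simp only [map_add, smul_add, ha, hb]
  | tmul t x => simp [hw, TensorProduct.tmul_smul]

include hπ hs hw in
theorem injective_of_exact (hg : IsUnit (algebraMap R T g))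
    (hex : Function.Exact (u.baseChange T) (v.baseChange T)) : Function.Injective (w.baseChange T) := by
  rw [injective_iff_map_eq_zero]
  intro y hy
  have hsurj : Function.Surjective (π.baseChange T) := by
    rw [LinearMap.baseChange_eq_ltensor]; exact LinearMap.lTensor_surjective T hs
  obtain ⟨y, rfl⟩ := hsurj y
  rw [baseChange_w T π v w hw, smul_eq_zero_iff_of_isUnit T hg] at hy
  obtain ⟨x, rfl⟩ := (hex y).1 hy
  have h : Function.Exact (u.lTensor T) (π.lTensor T) := lTensor_exact T hπ hs
  exact h.apply_apply_eq_zero x

include hπ hs hw in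
theorem exact_of_injective (hg : IsUnit (algebraMap R T g))
    (hinj : Function.Injective (w.baseChange T)) : Function.Exact (u.baseChange T) (v.baseChange T) := by
  intro y
  have h : Function.Exact (u.lTensor T) (π.lTensor T) := lTensor_exact T hπ hs
  rw [← smul_eq_zero_iff_of_isUnit T hg, ← baseChange_w T π v w hw, map_eq_zero_iff _ hinj]
  exact h y

end

theorem main {B : Type u} [IsDomain R] [CommRing B] [Algebra R B] [Algebra.FinitePresentation R B]
    {F G H : Type u} [AddCommGroup F] [Module B F] [Module R F] [IsScalarTower R B F] [Module.FinitePresentation B F]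
    [AddCommGroup G] [Module B G] [Module R G] [IsScalarTower R B G] [Module.FinitePresentation B G]
    [AddCommGroup H] [Module B H] [Module R H] [IsScalarTower R B H] [Module.FinitePresentation B H]
    (u : F →ₗ[B] G) (v : G →ₗ[B] H)
    (hgen : Function.Exact ((u.restrictScalars R).baseChange (FractionRing R)) ((v.restrictScalars R).baseChange (FractionRing R))) :
    ∃ f : R, f ≠ 0 ∧ ∀ p : PrimeSpectrum R, f ∉ p.asIdeal →
      Function.Exact ((u.restrictScalars R).baseChange p.asIdeal.ResidueField) ((v.restrictScalars R).baseChange p.asIdeal.ResidueField) := by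
  classical
  -- kill the composite
  obtain ⟨g, hg0, hg⟩ : ∃ g : R, g ≠ 0 ∧ ∀ x : F, g • v (u x) = 0 := by
    obtain ⟨s, hs⟩ := (Module.Finite.fg_top : (⊤ : Submodule B F).FG)
    have : ∀ x : F, ∃ c : nonZeroDivisors R, (c : R) • v (u x) = 0 := fun x => by
      have h1 : ((1 : FractionRing R) ⊗ₜ[R] v (u x)) = 0 := by
        have := hgen.apply_apply_eq_zero ((1 : FractionRing R) ⊗ₜ[R] x)
        simpa using this
      obtain ⟨c, hc⟩ := (IsLocalizedModule.eq_zero_iff (nonZeroDivisors R) (TensorProduct.mk R (FractionRing R) H 1)).1 h1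
      exact ⟨c, hc⟩
    choose c hc using this
    refine ⟨∏ x ∈ s, (c x : R), Finset.prod_ne_zero_iff.2 fun x _ => nonZeroDivisors.coe_ne_zero _, fun x => ?_⟩
    have hx : x ∈ Submodule.span B (s : Set F) := hs ▸ Submodule.mem_top
    induction hx using Submodule.span_induction with
    | mem y hy =>
      obtain ⟨e, he⟩ := Finset.dvd_prod_of_mem (fun x => (c x : R)) hy
      rw [he, mul_comm, mul_smul, hc, smul_zero]
    | zero => simp
    | add y z _ _ hy hz => rw [map_add, map_add, smul_add, hy, hz, add_zero]
    | smul b y _ hy => rw [map_smul, map_smul, smul_comm, hy, smul_zero]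
  let w : (G ⧸ LinearMap.range u) →ₗ[B] H := (LinearMap.range u).liftQ (g • v) (by
    rintro _ ⟨x, rfl⟩; simp [hg x])
  obtain ⟨f₁, hgf, hf₁, hfree₁, -⟩ := GenFree.generic_freeness_reduced (R := R) (S := B) (M := G ⧸ LinearMap.range u) hg0
  obtain ⟨f, hff, hf, hfree₂, -⟩ := GenFree.generic_freeness_reduced (R := R) (S := B) (M := H ⧸ LinearMap.range w) hf₁
  refine ⟨f, hf, fun p hp => ?_⟩
  let S := Localization.Away f
  let κ := p.asIdeal.ResidueField
  let K := FractionRing R
  have hfK : IsUnit (algebraMap R K f) := IsLocalization.map_units K (⟨f, mem_nonZeroDivisors_of_ne_zero hf⟩ : nonZeroDivisors R)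
  have hfκ : IsUnit (algebraMap R κ f) := by
    rw [isUnit_iff_ne_zero]; exact fun h => hp (Ideal.algebraMap_residueField_eq_zero.1 h)
  letI : Algebra S K := (IsLocalization.Away.lift f hfK).toAlgebra
  letI : Algebra S κ := (IsLocalization.Away.lift f hfκ).toAlgebra
  haveI : IsScalarTower R S K := IsScalarTower.of_algebraMap_eq' (IsLocalization.Away.lift_comp f hfK).symm
  haveI : IsScalarTower R S κ := IsScalarTower.of_algebraMap_eq' (IsLocalization.Away.lift_comp f hfκ).symm
  have hSK : Function.Injective (algebraMap S K) := by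
    haveI : IsFractionRing S K := IsFractionRing.isFractionRing_of_isDomain_of_isLocalization (Submonoid.powers f) S K
    exact IsFractionRing.injective S K
  let eH : (H ⧸ LinearMap.range (w.restrictScalars R)) ≃ₗ[R] (H ⧸ LinearMap.range w) :=
    (Submodule.quotEquivOfEq _ _ (LinearMap.range_restrictScalars w)).trans (Submodule.Quotient.restrictScalarsEquiv R _)
  haveI : Module.Flat S (S ⊗[R] (G ⧸ LinearMap.range u)) := by
    haveI := GenFree.free_away_localized_of_dvd hff (G ⧸ LinearMap.range u) hfree₁
    exact Module.Flat.of_linearEquiv (LocalizedModule.equivTensorProduct (Submonoid.powers f) _).symm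
  haveI : Module.Flat S (S ⊗[R] (H ⧸ LinearMap.range (w.restrictScalars R))) := by
    haveI := hfree₂
    haveI : Module.Flat S (S ⊗[R] (H ⧸ LinearMap.range w)) :=
      Module.Flat.of_linearEquiv (LocalizedModule.equivTensorProduct (Submonoid.powers f) _).symm
    exact Module.Flat.of_linearEquiv (eH.baseChange R S _ _)
  let π : G →ₗ[R] (G ⧸ LinearMap.range u) := (LinearMap.range u).mkQ.restrictScalars R
  have hπ : Function.Exact (u.restrictScalars R) π := LinearMap.exact_map_mkQ_range u
  have hw : ∀ x, (w.restrictScalars R) (π x) = g • (v.restrictScalars R) x := fun x => rfl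
  have hgK : IsUnit (algebraMap R K g) := IsLocalization.map_units K (⟨g, mem_nonZeroDivisors_of_ne_zero hg0⟩ : nonZeroDivisors R)
  have hgκ : IsUnit (algebraMap R κ g) := by
    obtain ⟨e, he⟩ := hgf.trans hff
    rw [he, map_mul] at hfκ
    exact isUnit_of_mul_isUnit_left hfκ
  have hs : Function.Surjective π := Submodule.mkQ_surjective _
  have hKinj := injective_of_exact K (u.restrictScalars R) π hπ hs (v.restrictScalars R) (w.restrictScalars R) hw hgK hgen
  exact exact_of_injective κ (u.restrictScalars R) π hπ hs (v.restrictScalars R) (w.restrictScalars R) hw hgκ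
    (injective_of_free_away (S := S) (T := κ) hSK (w.restrictScalars R) hKinj)

end Groth.Agent.Easy4.GenExact
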