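import Groth.Agent.Easy4.PushFin

/-! Devissage of finiteness of sections off `V(J)` to associated primes. -/

set_option autoImplicit false
set_option maxSynthPendingDepth 3

namespace Groth.Agent.Easy4.PushFin

universe u

open AlgebraicGeometry CategoryTheory Opposite TopologicalSpace Groth.Agent.LocH Groth.Agent.Easy4.SecMap

variable {A : Type u} [CommRing A]

/-- the ideal transform inside `L`. -/
def trSub (J : Ideal A) {M L : Type u} [AddCommGroup M] [Module A M] [AddCommGroup L] [Module A L] (ι : M →ₗ[A] L) :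
    Submodule A L where
  carrier := {z | ∃ n, ∀ a ∈ J ^ n, a • z ∈ LinearMap.range ι}
  zero_mem' := ⟨0, fun a _ => by simp⟩
  add_mem' := by
    rintro x y ⟨n, hn⟩ ⟨m, hm⟩
    exact ⟨n + m, fun a ha => by
      rw [smul_add]
      exact add_mem (hn a (Ideal.pow_le_pow_right (Nat.le_add_right n m) ha)) (hm a (Ideal.pow_le_pow_right (Nat.le_add_left m n) ha))⟩
  smul_mem' := by
    rintro c x ⟨n, hn⟩
    exact ⟨n, fun a ha => by rw [smul_comm]; exact Submodule.smul_mem _ c (hn a ha)⟩

variable [IsNoetherianRing A] (J : Ideal A)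

theorem fin_iff_trSub {M L : Type u} [AddCommGroup M] [Module A M] [AddCommGroup L] [Module A L]
    (ι : M →ₗ[A] L) (hι : Function.Injective ι) (f₀ : A) (hf₀ : f₀ ∈ J)
    (hb : Function.Bijective fun z : L => f₀ • z) : Fin' J M ↔ Module.Finite A (trSub J ι) := by
  let U := EGA4.openCompl A J
  have hU := fun {f : A} (hf : f ∈ J) => basicOpen_le_openCompl J hf
  have hunit : ∀ x : Submonoid.powers f₀, IsUnit (algebraMap A (Module.End A L) x) := by
    rintro ⟨_, c, rfl⟩
    rw [map_pow]
    exact ((Module.End.isUnit_iff _).2 hb).pow c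
  have hinjL : ∀ (c : ℕ) {x y : L}, f₀ ^ c • x = f₀ ^ c • y → x = y := fun c x y h =>
    ((Module.End.isUnit_iff _).1 (hunit ⟨f₀ ^ c, c, rfl⟩)).1 h
  let lft : Sec A M (PrimeSpectrum.basicOpen f₀) →ₗ[A] L :=
    IsLocalizedModule.lift (Submonoid.powers f₀) (secOf A M (PrimeSpectrum.basicOpen f₀)) ι hunit
  let ψ : Sec A M U →ₗ[A] L := lft ∘ₗ secRes A M (hU hf₀)
  have hθ : ∀ m, lft (secOf A M _ m) = ι m := fun m => IsLocalizedModule.lift_apply _ _ _ _ m
  have hψθ : ∀ m, ψ (secOf A M U m) = ι m := fun m => by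
    show lft (secRes A M (hU hf₀) _) = _
    rw [secRes_secOf, hθ]
  have hreg : IsSMulRegular M f₀ := fun x y h => hι (hinjL 1 (by
    rw [pow_one, ← map_smul, ← map_smul]; exact congrArg ι h))
  have hinj : Function.Injective ψ := by
    rw [injective_iff_map_eq_zero]
    intro s hs
    obtain ⟨⟨m, ⟨_, c, rfl⟩⟩, hm⟩ := IsLocalizedModule.surj (Submonoid.powers f₀)
      (secOf A M (PrimeSpectrum.basicOpen f₀)) (secRes A M (hU hf₀) s)
    change f₀ ^ c • secRes A M (hU hf₀) s = secOf A M _ m at hm
    have hm0 : m = 0 := hι (by rw [← hθ, ← hm, map_smul, show lft (secRes A M (hU hf₀) s) = 0 from hs, smul_zero, map_zero])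
    rw [hm0, map_zero] at hm
    have h0 : secRes A M (hU hf₀) s = 0 :=
      IsLocalizedModule.smul_injective (secOf A M (PrimeSpectrum.basicOpen f₀)) (⟨f₀ ^ c, c, rfl⟩ : Submonoid.powers f₀)
        (show f₀ ^ c • secRes A M (hU hf₀) s = f₀ ^ c • 0 by rw [hm, smul_zero])
    obtain ⟨n, hn⟩ := exists_pow_smul_eq_zero_of_res (hU hf₀) (f := f₀) inf_le_right h0
    exact ((smul_injective_sec hreg U).pow n).right_eq_zero_of_smul hn
  have hmem : ∀ s, ψ s ∈ trSub J ι := by
    intro s
    obtain ⟨n, hn⟩ := isPowerTorsion_coker J (Submodule.Quotient.mk s)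
    refine ⟨n, fun a ha => ?_⟩
    have h1 := hn a ha
    rw [← Submodule.Quotient.mk_smul, Submodule.Quotient.mk_eq_zero] at h1
    obtain ⟨m, hm⟩ := h1
    exact ⟨m, by rw [← hψθ, hm, map_smul]⟩
  have hsurj : ∀ z ∈ trSub J ι, ∃ s, ψ s = z := by
    rintro z ⟨n, hn⟩
    have h1 : ∀ f : J, ∃ m, ι m = (f : A) ^ n • z := fun f => hn _ (Ideal.pow_mem_pow f.2 n)
    choose m hm using h1
    have h2 : ∀ f : J, ∃ t : Sec A M (PrimeSpectrum.basicOpen (f : A)), (f : A) ^ n • t = secOf A M _ (m f) := fun f =>
      ((Module.End.isUnit_iff _).1 (IsLocalizedModule.map_units (secOf A M (PrimeSpectrum.basicOpen (f : A)))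
        (⟨(f : A) ^ n, n, rfl⟩ : Submonoid.powers (f : A)))).2 _
    choose t ht using h2
    obtain ⟨s, hs⟩ := exists_glue (fun f : J => PrimeSpectrum.basicOpen (f : A)) (fun f => hU f.2)
      (openCompl_le_iSup J) t fun f g => by
        refine sub_eq_zero.1 (eq_zero_of_pow_smul_eq_zero (f := (f : A)) inf_le_left (n := n)
          (eq_zero_of_pow_smul_eq_zero (f := (g : A)) inf_le_right (n := n) ?_))
        rw [smul_comm, smul_sub, smul_sub, ← map_smul _ ((g : A) ^ n) (t g), ht, secRes_secOf,
          smul_comm, ← map_smul _ ((f : A) ^ n) (t f), ht, secRes_secOf, ← map_smul, ← map_smul, sub_eq_zero]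
        congr 1
        refine hι ?_
        rw [map_smul, map_smul, hm, hm, smul_comm]
    refine ⟨s, hinjL n ?_⟩
    show f₀ ^ n • lft (secRes A M (hU hf₀) s) = f₀ ^ n • z
    rw [show secRes A M (hU hf₀) s = t ⟨f₀, hf₀⟩ from hs ⟨f₀, hf₀⟩, ← map_smul, ht ⟨f₀, hf₀⟩, hθ, hm]
  let e : Sec A M U ≃ₗ[A] trSub J ι := LinearEquiv.ofBijective (ψ.codRestrict _ hmem)
    ⟨fun x y h => hinj (congrArg Subtype.val h), fun z => (hsurj z.1 z.2).imp fun s h => Subtype.ext h⟩
  exact ⟨fun h => haveI : Module.Finite A (Sec A M U) := h; Module.Finite.equiv e,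
    fun h => Module.Finite.equiv e.symm⟩

theorem fin_self_iff (p : Ideal A) [p.IsPrime] (hp : ¬ J ≤ p) :
    Fin' J (A ⧸ p) ↔ Fin' (J.map (Ideal.Quotient.mk p)) (A ⧸ p) := by
  obtain ⟨f₀, hf, hfp⟩ := SetLike.not_le_iff_exists.1 hp
  let D := A ⧸ p
  let K := FractionRing D
  have hb : Function.Bijective fun z : K => Ideal.Quotient.mk p f₀ • z := by
    have hne : algebraMap D K (Ideal.Quotient.mk p f₀) ≠ 0 := by
      rw [Ne, map_eq_zero_iff _ (IsFractionRing.injective D K), Ideal.Quotient.eq_zero_iff_mem]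
      exact hfp
    simp only [Algebra.smul_def]
    exact ⟨mul_right_injective₀ hne, fun y => ⟨(algebraMap D K (Ideal.Quotient.mk p f₀))⁻¹ * y, mul_inv_cancel_left₀ hne y⟩⟩
  rw [fin_iff_trSub J ((Algebra.linearMap D K).restrictScalars A) (IsFractionRing.injective D K) f₀ hf
      (by
        have e : (fun z : K => f₀ • z) = fun z => Ideal.Quotient.mk p f₀ • z := funext fun z => (algebraMap_smul D f₀ z).symm
        rw [e]; exact hb),
    fin_iff_trSub (J.map (Ideal.Quotient.mk p)) (Algebra.linearMap D K) (IsFractionRing.injective D K)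
      (Ideal.Quotient.mk p f₀) (Ideal.mem_map_of_mem _ hf) hb]
  have heq : trSub J ((Algebra.linearMap D K).restrictScalars A) =
      (trSub (J.map (Ideal.Quotient.mk p)) (Algebra.linearMap D K)).restrictScalars A := by
    ext z
    show (∃ n, _) ↔ ∃ n, _
    refine exists_congr fun n => ⟨fun h b hb' => ?_, fun h a ha => ?_⟩
    · rw [← Ideal.map_pow] at hb'
      obtain ⟨a, ha, rfl⟩ := (Ideal.mem_map_iff_of_surjective _ Ideal.Quotient.mk_surjective).1 hb'
      obtain ⟨w, hw⟩ := h a ha
      exact ⟨w, hw.trans (algebraMap_smul D a z).symm⟩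
    · obtain ⟨w, hw⟩ := h _ (by rw [← Ideal.map_pow]; exact Ideal.mem_map_of_mem _ ha)
      exact ⟨w, hw.trans (algebraMap_smul D a z)⟩
  rw [Module.Finite.iff_fg, Module.Finite.iff_fg, heq]
  exact Submodule.FG.restrictScalars_iff

theorem exists_embedding (p : Ideal A) [p.IsPrime] (M : Type u) [AddCommGroup M] [Module A M] [Module.Finite A M]
    (hkill : ∀ a ∈ p, ∀ m : M, a • m = 0) (htf : ∀ a ∉ p, ∀ m : M, a • m = 0 → m = 0) :
    ∃ (n : ℕ) (φ : M →ₗ[A] (Fin n → A ⧸ p)), Function.Injective φ := by
  classical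
  letI : Module (A ⧸ p) M := Module.IsTorsionBySet.module (fun m a => hkill a a.2 m)
  haveI : IsScalarTower A (A ⧸ p) M := Module.IsTorsionBySet.isScalarTower (fun m (a : (p : Set A)) => hkill a a.2 m)
  haveI : Module.Finite (A ⧸ p) M := Module.Finite.of_restrictScalars_finite A (A ⧸ p) M
  let D := A ⧸ p
  let K := FractionRing D
  let L := LocalizedModule (nonZeroDivisors D) M
  have hinj : Function.Injective (LocalizedModule.mkLinearMap (nonZeroDivisors D) M) := by
    rw [injective_iff_map_eq_zero]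
    intro m hm
    obtain ⟨⟨c, hc⟩, hcm⟩ := (IsLocalizedModule.eq_zero_iff (nonZeroDivisors D) _).1 hm
    obtain ⟨a, rfl⟩ := Ideal.Quotient.mk_surjective c
    refine htf a (fun ha => nonZeroDivisors.ne_zero hc (Ideal.Quotient.eq_zero_iff_mem.2 ha)) m ?_
    rw [← algebraMap_smul D a]
    exact hcm
  haveI : Module.Finite K L := inferInstance
  let b := Module.finBasis K L
  let ev : M →ₗ[D] (Fin (Module.finrank K L) → K) :=
    (b.equivFun.toLinearMap.restrictScalars D) ∘ₗ LocalizedModule.mkLinearMap (nonZeroDivisors D) M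
  obtain ⟨s, hs⟩ := (Module.Finite.fg_top : (⊤ : Submodule D M).FG)
  obtain ⟨d, hd⟩ := IsLocalization.exist_integer_multiples (nonZeroDivisors D) (s ×ˢ Finset.univ)
    (fun x : M × Fin (Module.finrank K L) => ev x.1 x.2)
  have hint : ∀ m i, IsLocalization.IsInteger D ((d : D) • ev m i) := by
    intro m i
    have hm : m ∈ Submodule.span D (s : Set M) := hs ▸ Submodule.mem_top
    induction hm using Submodule.span_induction with
    | mem y hy => exact hd (y, i) (Finset.mem_product.2 ⟨hy, Finset.mem_univ i⟩)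
    | zero => exact ⟨0, by simp⟩
    | add x y _ _ hx hy => simpa [smul_add] using IsLocalization.isInteger_add hx hy
    | smul c x _ hx =>
      rw [map_smul, Pi.smul_apply, smul_comm]
      exact IsLocalization.isInteger_smul hx
  choose φ hφ using hint
  have hK := IsFractionRing.injective D K
  let φ' : M →ₗ[D] (Fin (Module.finrank K L) → D) :=
    { toFun := fun m i => φ m i
      map_add' := fun x y => funext fun i => hK (by simp [hφ, smul_add])
      map_smul' := fun c x => funext fun i => hK (by simp [hφ, Algebra.smul_def, mul_left_comm]) }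
  refine ⟨_, φ'.restrictScalars A, fun x y hxy => hinj (b.equivFun.injective (funext fun i => ?_))⟩
  have h1 := congrArg (algebraMap D K) (congrFun hxy i)
  change algebraMap D K (φ x i) = algebraMap D K (φ y i) at h1
  rw [hφ, hφ, Algebra.smul_def, Algebra.smul_def] at h1
  exact mul_left_cancel₀ ((map_ne_zero_iff _ hK).2 (nonZeroDivisors.coe_ne_zero d)) h1

theorem associatedPrimes_subset_of_injective_pi {M N : Type u} [AddCommGroup M] [Module A M] [AddCommGroup N] [Module A N]
    {n : ℕ} (φ : N →ₗ[A] (Fin n → M)) (hφ : Function.Injective φ) : associatedPrimes A N ⊆ associatedPrimes A M := by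
  intro q hq
  have hq2 : q ∈ associatedPrimes A (Fin n → M) := associatedPrimes.subset_of_injective hφ hq
  obtain ⟨hqp, x, hx⟩ := (isAssociatedPrime_iff_exists_injective_linearMap _ _).1 hq2
  let v := x (Ideal.Quotient.mk q 1)
  have hker : ∀ a : A, a • v = 0 ↔ a ∈ q := fun a => by
    rw [← map_smul, map_eq_zero_iff _ hx, ← Ideal.Quotient.mk_eq_mk, ← Submodule.Quotient.mk_smul, smul_eq_mul, mul_one,
      Submodule.Quotient.mk_eq_zero]
  have hinf : (Finset.univ : Finset (Fin n)).inf (fun i => LinearMap.ker (LinearMap.toSpanSingleton A M (v i))) ≤ q := by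
    intro a ha
    rw [Submodule.mem_finsetInf] at ha
    exact (hker a).1 (funext fun i => by simpa using ha i (Finset.mem_univ i))
  obtain ⟨i, -, hi⟩ := (hqp.inf_le' (s := Finset.univ)).1 hinf
  refine (isAssociatedPrime_iff_exists_injective_linearMap _ _).2 ⟨hqp, q.liftQ (LinearMap.toSpanSingleton A M (v i)) ?_, ?_⟩
  · intro a ha
    rw [LinearMap.mem_ker, LinearMap.toSpanSingleton_apply, ← Pi.smul_apply, (hker a).2 ha, Pi.zero_apply]
  · rw [← LinearMap.ker_eq_bot, Submodule.ker_liftQ_eq_bot]
    exact hi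

theorem fin_of_associated : ∀ (M : Type u) [AddCommGroup M] [Module A M] [Module.Finite A M],
    (∀ p ∈ associatedPrimes A M, Fin' J (A ⧸ p)) → Fin' J M := by
  suffices H : ∀ (s : Finset (Ideal A)) (M : Type u) [AddCommGroup M] [Module A M] [Module.Finite A M],
      associatedPrimes A M ⊆ ↑s → (∀ p ∈ associatedPrimes A M, Fin' J (A ⧸ p)) → Fin' J M by
    intro M _ _ _ h
    exact H (associatedPrimes.finite A M).toFinset M (by simp) h
  intro s
  induction s using Finset.strongInduction with
  | _ s ih =>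
    intro M _ _ _ hs hgood
    by_cases hne : (associatedPrimes A M).Nonempty
    swap
    · haveI : Subsingleton M := by
        by_contra hsub
        haveI := not_subsingleton_iff_nontrivial.1 hsub
        exact hne (associatedPrimes.nonempty A M)
      exact fin_of_forall_pow fun m => ⟨0, fun a _ => Subsingleton.elim _ _⟩
    obtain ⟨p, hp, hmax⟩ := (associatedPrimes.finite A M).exists_maximal hne
    haveI : p.IsPrime := (AssociatedPrimes.mem_iff.1 hp).isPrime
    obtain ⟨G, hG⟩ := (IsNoetherian.noetherian p : p.FG)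
    let N : ℕ → Submodule A M := fun i => Submodule.torsionBySet A M (↑(p ^ i) : Set A)
    have hN : ∀ i m, m ∈ N i ↔ ∀ a ∈ p ^ i, a • m = 0 := fun i m =>
      (Submodule.mem_torsionBySet_iff _ _).trans ⟨fun h a ha => h ⟨a, ha⟩, fun h a => h a.1 a.2⟩
    have hmono : Monotone N := fun i j hij m hm => (hN j m).2 fun a ha => (hN i m).1 hm a (Ideal.pow_le_pow_right hij ha)
    have h1 : Fin' J (N 1) := by
      obtain ⟨n, φ, hφ⟩ := exists_embedding p (N 1) (fun a ha m => Subtype.ext ((hN 1 m.1).1 m.2 a (by rwa [pow_one])))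
        (fun a ha m hm => by
          by_contra hm0
          obtain ⟨q, hq, hle⟩ := exists_le_isAssociatedPrime_of_isNoetherianRing A m hm0
          have hqM : q ∈ associatedPrimes A M :=
            associatedPrimes.subset_of_injective (N 1).injective_subtype (AssociatedPrimes.mem_iff.2 hq)
          have hpq : p ≤ q := fun b hb => hle (by
            rw [Submodule.mem_colon_singleton, Submodule.mem_bot]
            exact Subtype.ext ((hN 1 m.1).1 m.2 b (by rwa [pow_one])))
          exact ha (hmax hqM hpq (hle (by rw [Submodule.mem_colon_singleton, Submodule.mem_bot]; exact hm))))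
      exact fin_of_injective hφ (fin_pi (hgood p hp))
    have hall : ∀ i, Fin' J (N i) := by
      intro i
      induction i with
      | zero => exact fin_of_injective (Submodule.inclusion_injective (hmono (Nat.zero_le 1))) h1
      | succ i hi =>
        let Φ : N (i + 1) →ₗ[A] (Fin G.card → N i) := LinearMap.pi fun j =>
          LinearMap.codRestrict (N i) (((G.equivFin.symm j : A) • LinearMap.id) ∘ₗ (N (i + 1)).subtype) fun m => by
            refine (hN i _).2 fun a ha => ?_
            show a • (G.equivFin.symm j : A) • (m : M) = 0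
            rw [← mul_smul]
            exact (hN (i + 1) m.1).1 m.2 _ (pow_succ p i ▸ Ideal.mul_mem_mul ha (hG ▸ Ideal.subset_span (G.equivFin.symm j).2))
        refine fin_of_exact (φ := (LinearMap.ker Φ).subtype) Subtype.val_injective (ψ := Φ.rangeRestrict) (fun x => ?_) ?_
          (fin_of_injective (LinearMap.range Φ).injective_subtype (fin_pi hi))
        · rw [Submodule.coe_subtype, Subtype.range_coe_subtype]
          exact ⟨fun h => LinearMap.mem_ker.2 (congrArg Subtype.val h), fun h => Subtype.ext (LinearMap.mem_ker.1 h)⟩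
        · refine fin_of_injective (φ := LinearMap.codRestrict (N 1) ((N (i + 1)).subtype ∘ₗ (LinearMap.ker Φ).subtype) fun m => ?_)
            (fun x y h => Subtype.ext (Subtype.ext (congrArg Subtype.val h :))) h1
          refine (hN 1 _).2 fun a ha => ?_
          rw [pow_one, ← hG] at ha
          induction ha using Submodule.span_induction with
          | mem g hg =>
            have := congrArg Subtype.val (congrFun (LinearMap.mem_ker.1 m.2) (G.equivFin ⟨g, hg⟩))
            simpa [Φ] using this
          | zero => simp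
          | add x y _ _ hx hy => rw [add_smul, hx, hy, add_zero]
          | smul c x _ hx => rw [smul_eq_mul, mul_smul, hx, smul_zero]
    obtain ⟨k, hk⟩ := monotone_stabilizes_iff_noetherian.2 (inferInstance : IsNoetherian A M) ⟨N, hmono⟩
    have hstab : ∀ i, N i ≤ N k := fun i => by
      rcases le_total i k with h | h
      · exact hmono h
      · exact (hk i h).ge
    obtain ⟨H, hH⟩ := (IsNoetherian.noetherian (p ^ k) : (p ^ k).FG)
    let Ψ : (M ⧸ N k) →ₗ[A] (Fin H.card → M) :=
      (N k).liftQ (LinearMap.pi fun j => (H.equivFin.symm j : A) • LinearMap.id) fun m hm => by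
        rw [LinearMap.mem_ker]
        funext j
        exact (hN k m).1 hm _ (hH ▸ Ideal.subset_span (H.equivFin.symm j).2)
    have hΨ : Function.Injective Ψ := by
      rw [injective_iff_map_eq_zero]
      intro q hq
      obtain ⟨m, rfl⟩ := Submodule.Quotient.mk_surjective _ q
      rw [Submodule.Quotient.mk_eq_zero, hN]
      intro a ha
      rw [← hH] at ha
      induction ha using Submodule.span_induction with
      | mem g hg => simpa [Ψ] using congrFun hq (H.equivFin ⟨g, hg⟩)
      | zero => simp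
      | add x y _ _ hx hy => rw [add_smul, hx, hy, add_zero]
      | smul c x _ hx => rw [smul_eq_mul, mul_smul, hx, smul_zero]
    have hsub := associatedPrimes_subset_of_injective_pi Ψ hΨ
    have hnot : p ∉ associatedPrimes A (M ⧸ N k) := by
      intro hpq
      obtain ⟨hpp, y, hy⟩ := (isAssociatedPrime_iff_exists_injective_linearMap _ _).1 hpq
      obtain ⟨m, hm⟩ := Submodule.Quotient.mk_surjective _ (y (Ideal.Quotient.mk p 1))
      have hin : m ∈ N k := hstab (k + 1) ((hN (k + 1) m).2 fun a ha => by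
        rw [pow_succ] at ha
        refine Submodule.smul_induction_on ha (fun b hb c hc => ?_) (fun x z hx hz => by rw [add_smul, hx, hz, add_zero])
        rw [smul_eq_mul, mul_smul]
        refine (hN k _).1 ?_ b hb
        rw [← Submodule.Quotient.mk_eq_zero, Submodule.Quotient.mk_smul, hm, ← map_smul]
        have hz : c • (Ideal.Quotient.mk p 1) = (0 : A ⧸ p) := by
          rw [← Ideal.Quotient.mk_eq_mk, ← Submodule.Quotient.mk_smul, Submodule.Quotient.mk_eq_zero, smul_eq_mul, mul_one]
          exact hc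
        rw [hz, map_zero])
      have h0 : Ideal.Quotient.mk p 1 = 0 := hy (by rw [← hm, (Submodule.Quotient.mk_eq_zero _).2 hin, map_zero])
      exact hpp.ne_top ((Ideal.eq_top_iff_one _).2 (Ideal.Quotient.eq_zero_iff_mem.1 h0))
    exact fin_of_exact (φ := (N k).subtype) (N k).injective_subtype (ψ := (N k).mkQ) (LinearMap.exact_subtype_mkQ _)
      (hall k) (ih (s.erase p) (Finset.erase_ssubset (hs hp)) (M ⧸ N k)
        (fun q hq => Finset.mem_coe.2 (Finset.mem_erase.2 ⟨fun h => hnot (h ▸ hq), hs (hsub hq)⟩))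
        (fun q hq => hgood q (hsub hq)))

theorem push_iff_associated (M : Type u) [AddCommGroup M] [Module A M] [Module.Finite A M] :
    EGA4.IsCoherentPushCompl A J M ↔
      ∀ p ∈ associatedPrimes A M, ¬ J ≤ p → EGA4.IsCoherentPushCompl (A ⧸ p) (J.map (Ideal.Quotient.mk p)) (A ⧸ p) := by
  constructor
  · intro h p hp hJp
    haveI := (AssociatedPrimes.mem_iff.1 hp).isPrime
    obtain ⟨-, φ, hφ⟩ := (isAssociatedPrime_iff_exists_injective_linearMap _ _).1 hp
    rw [push_iff, ← fin_self_iff J p hJp]
    exact fin_of_injective hφ ((push_iff J M).1 h)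
  · intro h
    refine (push_iff J M).2 (fin_of_associated J M fun p hp => ?_)
    haveI := (AssociatedPrimes.mem_iff.1 hp).isPrime
    by_cases hJp : J ≤ p
    · refine fin_of_forall_pow fun z => ⟨1, fun a ha => ?_⟩
      rw [pow_one] at ha
      obtain ⟨w, rfl⟩ := Ideal.Quotient.mk_surjective z
      rw [← Ideal.Quotient.mk_eq_mk, ← Submodule.Quotient.mk_smul, Submodule.Quotient.mk_eq_zero, smul_eq_mul]
      exact p.mul_mem_right w (hJp ha)
    · exact (fin_self_iff J p hJp).2 ((push_iff _ _).1 (h p hp hJp))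

/-- necessity. -/
theorem two_le_height (M : Type u) [AddCommGroup M] [Module A M] [Module.Finite A M]
    (h : EGA4.IsCoherentPushCompl A J M) :
    ∀ p ∈ associatedPrimes A M, ¬ J ≤ p → (2 : ℕ∞) ≤ (J.map (Ideal.Quotient.mk p)).height := by
  intro p hp hJp
  haveI := (AssociatedPrimes.mem_iff.1 hp).isPrime
  have hD := (push_iff _ _).1 ((push_iff_associated J M).1 h p hp hJp)
  let D := A ⧸ p
  let K := FractionRing D
  let JD : Ideal D := J.map (Ideal.Quotient.mk p)
  obtain ⟨f₀, hf, hfp⟩ := SetLike.not_le_iff_exists.1 hJp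
  have hf0 : Ideal.Quotient.mk p f₀ ≠ 0 := fun hh => hfp (Ideal.Quotient.eq_zero_iff_mem.1 hh)
  have hmem : Ideal.Quotient.mk p f₀ ∈ JD := Ideal.mem_map_of_mem _ hf
  have hbne : algebraMap D K (Ideal.Quotient.mk p f₀) ≠ 0 := (map_ne_zero_iff _ (IsFractionRing.injective D K)).2 hf0
  have hb : Function.Bijective fun z : K => Ideal.Quotient.mk p f₀ • z := by
    simp only [Algebra.smul_def]
    exact ⟨mul_right_injective₀ hbne, fun y => ⟨(algebraMap D K (Ideal.Quotient.mk p f₀))⁻¹ * y, mul_inv_cancel_left₀ hbne y⟩⟩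
  have hfin := (fin_iff_trSub JD (Algebra.linearMap D K) (IsFractionRing.injective D K) _ hmem hb).1 hD
  rw [Ideal.height_eq_inf_minimalPrimes]
  refine le_iInf₂ fun P hP => ?_
  haveI := hP.isPrime
  by_contra hlt
  rw [not_le] at hlt
  set b := Ideal.Quotient.mk p f₀
  have hbP : b ∈ P := hP.1.2 hmem
  have hPb : P ∈ (Ideal.span {b}).minimalPrimes := by
    refine ⟨⟨inferInstance, (Ideal.span_singleton_le_iff_mem _).2 hbP⟩, fun Q hQ hQP => ?_⟩
    by_contra hne
    haveI := hQ.1
    have hlt' : Q < P := lt_of_le_of_ne hQP fun hh => hne hh.ge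
    have hbot : (⊥ : Ideal D) < Q := bot_lt_iff_ne_bot.2 fun hh => hf0 (by
      have h9 := hQ.2 (Ideal.mem_span_singleton_self b)
      rw [hh] at h9
      exact Ideal.mem_bot.1 h9)
    haveI : Ideal.FiniteHeight P := Ideal.finiteHeight_of_isNoetherianRing P
    haveI : Ideal.FiniteHeight Q := Ideal.finiteHeight_of_isNoetherianRing Q
    have hQ1 : Ideal.height Q < Ideal.height P := Ideal.height_strict_mono_of_isPrime_of_isPrime hlt'
    have hQ0 : Ideal.height (⊥ : Ideal D) < Ideal.height Q := Ideal.height_strict_mono_of_isPrime_of_isPrime hbot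
    have hP2 : Ideal.height P < 2 := hlt
    have hQ2 : (1 : ℕ∞) ≤ Ideal.height Q := Order.one_le_iff_pos.2 (lt_of_le_of_lt bot_le hQ0)
    have hP3 : (2 : ℕ∞) ≤ Ideal.height P := by
      have := Order.add_one_le_of_lt hQ1
      exact le_trans (by rw [← one_add_one_eq_two]; exact add_le_add hQ2 le_rfl) this
    exact not_le.2 hP2 hP3
  let R := Localization.AtPrime P
  have hrad : P.map (algebraMap D R) ≤ ((Ideal.span {b}).map (algebraMap D R)).radical := by
    rw [Ideal.radical_eq_sInf]
    refine le_sInf fun Q ⟨hQ, hQp⟩ => ?_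
    haveI := hQp
    have hQc : Ideal.span {b} ≤ Q.comap (algebraMap D R) := Ideal.map_le_iff_le_comap.1 hQ
    have hle : Q.comap (algebraMap D R) ≤ P := by
      have := Ideal.comap_mono (f := algebraMap D R) (IsLocalRing.le_maximalIdeal hQp.ne_top)
      exact this.trans (IsLocalization.AtPrime.comap_maximalIdeal R P).le
    exact Ideal.map_le_iff_le_comap.2 (hPb.2 ⟨inferInstance, hQc⟩ hle)
  obtain ⟨k, hk⟩ := Ideal.exists_pow_le_of_le_radical_of_fg hrad (IsNoetherian.noetherian _)
  rw [← Ideal.map_pow] at hk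
  obtain ⟨G, hG⟩ := (IsNoetherian.noetherian (P ^ k) : (P ^ k).FG)
  have hex : ∀ g : G, ∃ s : P.primeCompl, (s : D) * g ∈ Ideal.span {b} := fun g => by
    have := hk (Ideal.mem_map_of_mem _ (hG ▸ Ideal.subset_span g.2 : (g : D) ∈ P ^ k))
    rw [IsLocalization.algebraMap_mem_map_algebraMap_iff P.primeCompl] at this
    obtain ⟨s, hs, hsg⟩ := this
    exact ⟨⟨s, hs⟩, hsg⟩
  choose s hs using hex
  let s0 : D := ∏ g : G, (s g : D)
  have hs0 : s0 ∉ P := fun hh => by
    obtain ⟨g, -, hg⟩ := Ideal.IsPrime.prod_mem_iff.1 hh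
    exact (s g).2 hg
  have hs0' : ∀ a ∈ JD ^ k, s0 * a ∈ Ideal.span {b} := by
    intro a ha
    have : a ∈ P ^ k := Ideal.pow_right_mono hP.1.2 k ha
    rw [← hG] at this
    clear ha
    induction this using Submodule.span_induction with
    | mem g hg =>
      obtain ⟨e, he⟩ := Finset.dvd_prod_of_mem (fun g : G => (s g : D)) (Finset.mem_univ ⟨g, hg⟩)
      rw [show s0 = (s ⟨g, hg⟩ : D) * e from he, mul_right_comm]
      exact Ideal.mul_mem_right _ _ (hs ⟨g, hg⟩)
    | zero => simp
    | add x y _ _ hx hy => rw [mul_add]; exact add_mem hx hy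
    | smul c x _ hx => rw [smul_eq_mul, mul_left_comm]; exact Ideal.mul_mem_left _ _ hx
  let z : K := algebraMap D K s0 / algebraMap D K b
  have hz : ∀ t, z ^ t ∈ trSub JD (Algebra.linearMap D K) := by
    intro t
    refine ⟨k * t, fun a ha => ?_⟩
    suffices s0 ^ t * a ∈ Ideal.span {b ^ t} by
      obtain ⟨c, hc⟩ := Ideal.mem_span_singleton'.1 this
      refine ⟨c, ?_⟩
      rw [Algebra.linearMap_apply, Algebra.smul_def, div_pow, mul_div_assoc', eq_div_iff (pow_ne_zero _ hbne)]
      simp only [← map_pow, ← map_mul, hc]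
      rw [mul_comm (s0 ^ t)]
    rw [pow_mul] at ha
    rw [← Ideal.span_singleton_pow]
    induction t generalizing a with
    | zero => simp
    | succ t iht =>
      rw [pow_succ] at ha
      refine Submodule.smul_induction_on ha (fun x hx y hy => ?_) (fun x y hx hy => by rw [mul_add]; exact add_mem hx hy)
      rw [smul_eq_mul, pow_succ, pow_succ, mul_mul_mul_comm]
      exact Ideal.mul_mem_mul (iht x hx) (hs0' y hy)
  obtain ⟨T, hT⟩ := Module.Finite.iff_fg.1 hfin
  obtain ⟨d, hd⟩ := IsLocalization.exist_integer_multiples (nonZeroDivisors D) T id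
  have hdint : ∀ w ∈ trSub JD (Algebra.linearMap D K), IsLocalization.IsInteger D ((d : D) • w) := by
    intro w hw
    rw [← hT] at hw
    induction hw using Submodule.span_induction with
    | mem y hy => exact hd y hy
    | zero => exact ⟨0, by simp⟩
    | add x y _ _ hx hy => rw [smul_add]; exact IsLocalization.isInteger_add hx hy
    | smul c x _ hx => rw [smul_comm]; exact IsLocalization.isInteger_smul hx
  have hd0 : algebraMap D R (d : D) = 0 := by
    have hbot := Ideal.iInf_pow_eq_bot_of_isLocalRing (R := R) ((Ideal.span {b}).map (algebraMap D R))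
      (ne_top_of_le_ne_top (IsLocalRing.maximalIdeal.isMaximal R).ne_top (by
        rw [← Localization.AtPrime.map_eq_maximalIdeal]; exact Ideal.map_mono ((Ideal.span_singleton_le_iff_mem _).2 hbP)))
    rw [← Ideal.mem_bot, ← hbot, Ideal.mem_iInf]
    intro t
    obtain ⟨c, hc⟩ := hdint _ (hz t)
    rw [Algebra.smul_def, div_pow, mul_div_assoc', eq_div_iff (pow_ne_zero _ hbne)] at hc
    simp only [← map_pow, ← map_mul] at hc
    have hc' := IsFractionRing.injective D K hc
    rw [← Ideal.map_pow, IsLocalization.algebraMap_mem_map_algebraMap_iff P.primeCompl]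
    refine ⟨s0 ^ t, fun hh => hs0 (Ideal.IsPrime.mem_of_pow_mem ‹_› t hh), ?_⟩
    rw [Ideal.span_singleton_pow, mul_comm, ← hc']
    exact Ideal.mul_mem_left _ _ (Ideal.mem_span_singleton_self _)
  exact nonZeroDivisors.coe_ne_zero d (IsLocalization.injective R P.primeCompl_le_nonZeroDivisors (hd0.trans (map_zero _).symm))

end Groth.Agent.Easy4.PushFin
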