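import Groth.Agent.LocH.Spread
import Groth.Agent.FlatDepth.SkTensor
import Groth.Agent.FlatDepth.Basic
import Groth.Agent.EGA41CM.Basic
import Mathlib

/-! `(S_k)` by associated primes of quotients by regular sequences. -/

set_option autoImplicit false
set_option maxSynthPendingDepth 3
set_option maxHeartbeats 1000000

namespace Groth.Agent.Easy4.SkSeq

universe u

open RingTheory.Sequence IsLocalRing
open scoped Pointwise

variable {A : Type u} [CommRing A] {M : Type u} [AddCommGroup M] [Module A M]

/-- quotients by the localised ideal. -/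
theorem exists_equiv (S : Submonoid A) (J : Ideal A) :
    Nonempty ((LocalizedModule S M ⧸ (J.map (algebraMap A (Localization S)) • ⊤ : Submodule (Localization S) (LocalizedModule S M)))
      ≃ₗ[Localization S] LocalizedModule S (M ⧸ (J • ⊤ : Submodule A M))) := by
  have h : (J • ⊤ : Submodule A M).localized' (Localization S) S (LocalizedModule.mkLinearMap S M) =
      J.map (algebraMap A (Localization S)) • ⊤ := by
    rw [Submodule.localized'_smul, Ideal.localized'_eq_map, Submodule.localized'_top]
  let g := (J • ⊤ : Submodule A M).toLocalizedQuotient' (Localization S) S (LocalizedModule.mkLinearMap S M)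
  exact ⟨(Submodule.quotEquivOfEq _ _ h.symm).trans
    ((IsLocalizedModule.linearEquiv S g (LocalizedModule.mkLinearMap S _)).extendScalarsOfIsLocalization S (Localization S))⟩

/-- sequences of a localisation come from the ring up to units. -/
theorem exists_lift (S : Submonoid A) (rs : List (Localization S)) :
    ∃ P : List (A × Localization S), P.length = rs.length ∧ rs = P.map (fun x => x.2 * algebraMap A (Localization S) x.1) ∧
      (∀ x ∈ P, IsUnit x.2) := by
  induction rs with
  | nil => exact ⟨[], rfl, rfl, by simp⟩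
  | cons r rs ih =>
    obtain ⟨P, hl, hP, hu⟩ := ih
    obtain ⟨⟨a, s⟩, hs⟩ := IsLocalization.surj S r
    obtain ⟨u, hu'⟩ := IsLocalization.map_units (Localization S) s
    refine ⟨(a, ((u⁻¹ : (Localization S)ˣ) : Localization S)) :: P, by simp [hl], ?_, ?_⟩
    · rw [List.map_cons, ← hP]
      congr 1
      show r = ((u⁻¹ : (Localization S)ˣ) : Localization S) * algebraMap A (Localization S) a
      rw [← hs, ← hu', mul_comm r, Units.inv_mul_cancel_left]
    · rintro x hx
      rcases List.mem_cons.1 hx with rfl | hx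
      · exact ⟨u⁻¹, rfl⟩
      · exact hu x hx

theorem exists_list (S : Submonoid A) (rs : List (Localization S)) (hw : IsWeaklyRegular (LocalizedModule S M) rs) :
    ∃ L : List A, L.length = rs.length ∧ IsWeaklyRegular (LocalizedModule S M) (L.map (algebraMap A (Localization S))) ∧
      Ideal.ofList rs = (Ideal.ofList L).map (algebraMap A (Localization S)) := by
  obtain ⟨P, hl, rfl, hu⟩ := exists_lift S rs
  refine ⟨P.map Prod.fst, by rw [List.length_map, List.length_map], ?_, ?_⟩
  · have h := LocH.weaklyRegular_of_mul (P.map fun x => (algebraMap A (Localization S) x.1, x.2)) (LocalizedModule S M)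
      (by rw [List.map_map]; exact hw)
    rw [List.map_map] at h ⊢
    exact h
  · rw [Ideal.map_ofList, List.map_map]
    refine le_antisymm (Ideal.span_le.2 ?_) (Ideal.span_le.2 ?_)
    · intro y hy
      obtain ⟨x, hx, rfl⟩ := List.mem_map.1 (show y ∈ P.map _ from hy)
      exact Ideal.mul_mem_left _ _ (Ideal.subset_span (List.mem_map.2 ⟨x, hx, rfl⟩))
    · intro y hy
      obtain ⟨x, hx, rfl⟩ := List.mem_map.1 (show y ∈ P.map _ from hy)
      show (algebraMap A (Localization S) ∘ Prod.fst) x ∈ _
      refine (Ideal.unit_mul_mem_iff_mem _ (hu x hx)).1 (Ideal.subset_span (List.mem_map.2 ⟨x, hx, rfl⟩))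

variable [IsNoetherianRing A] [Module.Finite A M]

theorem mem_of_associated (q : Ideal A) (L : List A)
    (hq : q ∈ associatedPrimes A (M ⧸ (Ideal.ofList L • ⊤ : Submodule A M))) {x : A} (hx : x ∈ L) : x ∈ q := by
  refine (AssociatedPrimes.mem_iff.1 hq).annihilator_le ?_
  rw [Submodule.mem_annihilator]
  intro z _
  obtain ⟨z, rfl⟩ := Submodule.Quotient.mk_surjective _ z
  rw [← Submodule.Quotient.mk_smul, Submodule.Quotient.mk_eq_zero]
  exact Submodule.smul_mem_smul (Ideal.subset_span hx) trivial

theorem socSeq_of_associated (q : Ideal A) [q.IsPrime] (L : List A)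
    (hq : q ∈ associatedPrimes A (M ⧸ (Ideal.ofList L • ⊤ : Submodule A M)))
    (hw : IsWeaklyRegular (LocalizedModule q.primeCompl M) (L.map (algebraMap A (Localization.AtPrime q)))) :
    FlatDepth.SocSeq (Localization.AtPrime q) (LocalizedModule q.primeCompl M) L.length := by
  refine ⟨L.map (algebraMap A _), by simp, hw, ?_, ?_⟩
  · intro r hr
    obtain ⟨x, hx, rfl⟩ := List.mem_map.1 hr
    rw [← Localization.AtPrime.map_eq_maximalIdeal]
    exact Ideal.mem_map_of_mem _ (mem_of_associated q L hq hx)
  · rw [← Ideal.map_ofList]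
    obtain ⟨e⟩ := exists_equiv (M := M) q.primeCompl (Ideal.ofList L)
    obtain ⟨-, y, hy⟩ := (isAssociatedPrime_iff_exists_injective_linearMap _ _).1
      (Module.associatedPrimes.mem_associatedPrimes_atPrime_of_mem_associatedPrimes hq)
    have hker : ∀ a ∈ maximalIdeal (Localization.AtPrime q), a • y (Ideal.Quotient.mk _ 1) = 0 := fun a ha => by
      rw [← map_smul, show a • (Ideal.Quotient.mk (maximalIdeal (Localization.AtPrime q)) 1) = 0 from
        Ideal.Quotient.eq_zero_iff_mem.2 (by simpa using ha), map_zero]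
    refine ⟨e.symm (y (Ideal.Quotient.mk _ 1)), e.symm.map_ne_zero_iff.2 ?_, fun a ha => ?_⟩
    · rw [map_ne_zero_iff _ hy, map_one]
      exact one_ne_zero
    · rw [← map_smul, hker a ha, map_zero]

theorem no_embedded (k : ℕ) (h : LocCoh.HasSk k A M) (L : List A) (hk : L.length < k) (p q : Ideal A) [q.IsPrime]
    (hp : p ∈ associatedPrimes A (M ⧸ (Ideal.ofList L • ⊤ : Submodule A M)))
    (hq : q ∈ associatedPrimes A (M ⧸ (Ideal.ofList L • ⊤ : Submodule A M)))
    (hw : IsWeaklyRegular (LocalizedModule q.primeCompl M) (L.map (algebraMap A (Localization.AtPrime q))))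
    (hpq : p ≤ q) : p = q := by
  by_contra hne
  have hs := socSeq_of_associated q L hq hw
  have hd := (FlatDepth.SocSeq.depth_eq hs).1
  haveI : Nontrivial (LocalizedModule q.primeCompl M) := by
    obtain ⟨rs, -, -, -, x, hx, -⟩ := hs
    obtain ⟨z, rfl⟩ := Submodule.Quotient.mk_surjective _ x
    exact nontrivial_of_ne z 0 fun h => hx (by rw [h]; rfl)
  have hdim := EGA41CM.supportDim_quotient_of_regular (xs := L.map (algebraMap A (Localization.AtPrime q)))
    (M := LocalizedModule q.primeCompl M) (fun r hr => by
      obtain ⟨x, hx, rfl⟩ := List.mem_map.1 hr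
      rw [← Localization.AtPrime.map_eq_maximalIdeal]
      exact Ideal.mem_map_of_mem _ (mem_of_associated q L hq hx)) hw
  rw [← Ideal.map_ofList, List.length_map] at hdim
  obtain ⟨e⟩ := exists_equiv (M := M) q.primeCompl (Ideal.ofList L)
  rw [Module.supportDim_eq_of_equiv e, FlatDepth.supportDim_localized_eq] at hdim
  have h1 : (1 : WithBot ℕ∞) ≤ Order.krullDim {x : PrimeSpectrum A //
      x ∈ Module.support A (M ⧸ (Ideal.ofList L • ⊤ : Submodule A M)) ∧ x.asIdeal ≤ q} := by
    rw [Order.one_le_krullDim_iff]
    have hp' := (AssociatedPrimes.mem_iff.1 hp).isPrime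
    have hsupp : ∀ (P : Ideal A) (hP : P.IsPrime), P ∈ associatedPrimes A (M ⧸ (Ideal.ofList L • ⊤ : Submodule A M)) →
        (⟨P, hP⟩ : PrimeSpectrum A) ∈ Module.support A (M ⧸ (Ideal.ofList L • ⊤ : Submodule A M)) := fun P hP hass => by
      rw [Module.mem_support_iff_of_finite]
      exact fun a ha => (AssociatedPrimes.mem_iff.1 hass).annihilator_le (by simpa [Submodule.annihilator_top] using ha)
    exact ⟨⟨⟨p, hp'⟩, hsupp p hp' hp, hpq⟩, ⟨⟨q, inferInstance⟩, hsupp q _ hq, le_rfl⟩,
      lt_of_le_of_ne hpq fun h => hne (congrArg (fun x => x.1.asIdeal) h)⟩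
  have h2 : ((L.length + 1 : ℕ) : WithBot ℕ∞) ≤
      Module.supportDim (Localization.AtPrime q) (LocalizedModule q.primeCompl M) := by
    rw [← hdim, Nat.cast_add, Nat.cast_one, add_comm]
    exact add_le_add h1 le_rfl
  have h3 := h q
  rw [hd] at h3
  have h4 : ((L.length + 1 : ℕ) : WithBot ℕ∞) ≤ ((L.length : ℕ∞) : WithBot ℕ∞) :=
    le_trans (le_min (Nat.cast_le.2 hk) h2) h3
  have h5 : L.length + 1 ≤ L.length := by exact_mod_cast h4
  omega

theorem exists_away (q : Ideal A) [q.IsPrime] (L : List A)
    (hw : IsWeaklyRegular (LocalizedModule q.primeCompl M) (L.map (algebraMap A (Localization.AtPrime q)))) :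
    ∃ g ∉ q, IsWeaklyRegular (LocalizedModule (Submonoid.powers g) M) (L.map (algebraMap A (Localization.Away g))) := by
  obtain ⟨g, hg, hgq⟩ := LocH.exists_notMem_weaklyRegular q L hw
  refine ⟨g, hg, (LocH.weaklyRegular_localized_iff _ L).2 fun i hi m hm => ?_⟩
  let C : Ideal A := Submodule.colon (Ideal.ofList (L.take i) • ⊤ : Submodule A M) {m}
  have hrad : g ∈ C.radical := by
    rw [Ideal.radical_eq_sInf, Ideal.mem_sInf]
    rintro P ⟨hCP, hP⟩
    by_contra hgP
    haveI := hP
    obtain ⟨t, ht, htm⟩ := (LocH.weaklyRegular_localized_iff _ L).1 (hgq P hgP) i hi m hm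
    exact ht (hCP (Submodule.mem_colon_singleton.2 htm))
  obtain ⟨n, hn⟩ := hrad
  exact ⟨g ^ n, ⟨n, rfl⟩, Submodule.mem_colon_singleton.1 hn⟩

theorem le_zero_of_lt_one {x : WithBot ℕ∞} (h : x < 1) : x ≤ 0 := by
  cases x with
  | bot => exact bot_le
  | coe x =>
    have : x < 1 := WithBot.coe_lt_coe.1 h
    exact WithBot.coe_le_coe.2 (ENat.lt_one_iff_eq_zero.1 this).le

theorem hasSk_of_no_embedded (k : ℕ)
    (H : ∀ (g : A) (rs : List (Localization.Away g)), rs.length < k →
        RingTheory.Sequence.IsWeaklyRegular (LocalizedModule (Submonoid.powers g) M) rs →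
        ∀ p ∈ associatedPrimes (Localization.Away g)
            (LocalizedModule (Submonoid.powers g) M ⧸
              (Ideal.ofList rs • (⊤ : Submodule (Localization.Away g) (LocalizedModule (Submonoid.powers g) M)))),
          ∀ q ∈ associatedPrimes (Localization.Away g)
            (LocalizedModule (Submonoid.powers g) M ⧸
              (Ideal.ofList rs • (⊤ : Submodule (Localization.Away g) (LocalizedModule (Submonoid.powers g) M)))),
            p ≤ q → p = q) : LocCoh.HasSk k A M := by
  intro q hqp
  rcases subsingleton_or_nontrivial (LocalizedModule q.primeCompl M) with hs | hs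
  · rw [FlatDepth.depth_eq_top]; exact le_top
  obtain ⟨n, hn⟩ := FlatDepth.exists_socSeq (R := Localization.AtPrime q) (LocalizedModule q.primeCompl M)
  rw [(FlatDepth.SocSeq.depth_eq hn).1]
  by_contra hlt
  rw [not_le, lt_min_iff] at hlt
  obtain ⟨hnk, hdim⟩ := hlt
  obtain ⟨rs, hl, hw, hmem, x, hx, hax⟩ := hn
  obtain ⟨L, hLl, hLw, hLe⟩ := exists_list q.primeCompl rs hw
  rw [hl] at hLl
  obtain ⟨e⟩ := exists_equiv (M := M) q.primeCompl (Ideal.ofList L)
  let e' := (Submodule.quotEquivOfEq _ _ (congrArg (fun I => I • (⊤ : Submodule (Localization.AtPrime q) (LocalizedModule q.primeCompl M))) hLe)).trans e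
  -- q is associated to the quotient
  have hqass : q ∈ associatedPrimes A (M ⧸ (Ideal.ofList L • ⊤ : Submodule A M)) := by
    have h1 : maximalIdeal (Localization.AtPrime q) ∈
        associatedPrimes (Localization.AtPrime q) (LocalizedModule q.primeCompl (M ⧸ (Ideal.ofList L • ⊤ : Submodule A M))) := by
      rw [AssociatedPrimes.mem_iff, isAssociatedPrime_iff_exists_injective_linearMap]
      refine ⟨inferInstance, e'.toLinearMap ∘ₗ (Submodule.liftQ (maximalIdeal (Localization.AtPrime q)) (LinearMap.toSpanSingleton _ _ x) hax),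
        e'.injective.comp ?_⟩
      rw [← LinearMap.ker_eq_bot, Submodule.ker_liftQ_eq_bot]
      intro a ha
      by_contra hnot
      refine hx ((IsUnit.smul_eq_zero (IsLocalRing.notMem_maximalIdeal.1 hnot)).1 ?_)
      exact ha
    have h2 := Module.associatedPrimes.comap_mem_associatedPrimes_of_mem_associatedPrimes_of_isLocalizedModule_of_fg
      q.primeCompl (LocalizedModule.mkLinearMap q.primeCompl _) _ h1 (IsNoetherian.noetherian _)
    have h3 : (maximalIdeal (Localization.AtPrime q)).comap (algebraMap A (Localization.AtPrime q)) = q :=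
      IsLocalization.AtPrime.comap_maximalIdeal (Localization.AtPrime q) q
    rwa [h3] at h2
  obtain ⟨g, hg, hgw⟩ := exists_away q L hLw
  -- a smaller associated prime
  have hpos : (1 : WithBot ℕ∞) ≤ Order.krullDim {x : PrimeSpectrum A //
      x ∈ Module.support A (M ⧸ (Ideal.ofList L • ⊤ : Submodule A M)) ∧ x.asIdeal ≤ q} := by
    rw [← FlatDepth.supportDim_localized_eq, ← Module.supportDim_eq_of_equiv e]
    have hdim2 := EGA41CM.supportDim_quotient_of_regular (xs := L.map (algebraMap A (Localization.AtPrime q)))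
      (M := LocalizedModule q.primeCompl M) (fun r hr => by
        obtain ⟨y, hy, rfl⟩ := List.mem_map.1 hr
        rw [← Localization.AtPrime.map_eq_maximalIdeal]
        exact Ideal.mem_map_of_mem _ (mem_of_associated q L hqass hy)) hLw
    rw [← Ideal.map_ofList, List.length_map, hLl] at hdim2
    by_contra h0
    rw [not_le] at h0
    rw [← hdim2] at hdim
    have hle : Module.supportDim (Localization.AtPrime q) (LocalizedModule q.primeCompl M ⧸
        ((Ideal.ofList L).map (algebraMap A (Localization.AtPrime q)) • ⊤ : Submodule (Localization.AtPrime q) _)) ≤ 0 :=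
      le_zero_of_lt_one h0
    have h3 : ((n : ℕ∞) : WithBot ℕ∞) < (n : WithBot ℕ∞) := lt_of_lt_of_le hdim
      ((add_le_add hle le_rfl).trans (zero_add _).le)
    exact lt_irrefl _ (h3.trans_le (le_of_eq rfl))
  rw [Order.one_le_krullDim_iff] at hpos
  obtain ⟨a, b, hab⟩ := hpos
  have hann : Module.annihilator A (M ⧸ (Ideal.ofList L • ⊤ : Submodule A M)) ≤ a.1.asIdeal :=
    Module.mem_support_iff_of_finite.1 a.2.1
  obtain ⟨p, hp, hpa⟩ := Ideal.exists_minimalPrimes_le hann
  have hpass := Module.associatedPrimes.minimalPrimes_annihilator_subset_associatedPrimes A _ hp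
  have hpq : p < q := lt_of_le_of_lt hpa (lt_of_lt_of_le (show a.1.asIdeal < b.1.asIdeal from hab) b.2.2)
  haveI := (AssociatedPrimes.mem_iff.1 hpass).isPrime
  obtain ⟨eg⟩ := exists_equiv (M := M) (Submonoid.powers g) (Ideal.ofList L)
  let eg' := (Submodule.quotEquivOfEq _ _ (congrArg (fun I => I • (⊤ : Submodule (Localization.Away g) (LocalizedModule (Submonoid.powers g) M))) (Ideal.map_ofList (algebraMap A (Localization.Away g)) L).symm)).trans eg
  have key : ∀ (P : Ideal A) [P.IsPrime], g ∉ P → P ∈ associatedPrimes A (M ⧸ (Ideal.ofList L • ⊤ : Submodule A M)) →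
      P.map (algebraMap A (Localization.Away g)) ∈ associatedPrimes (Localization.Away g)
        (LocalizedModule (Submonoid.powers g) M ⧸
          (Ideal.ofList (L.map (algebraMap A (Localization.Away g))) • (⊤ : Submodule (Localization.Away g) (LocalizedModule (Submonoid.powers g) M)))) ∧
      (P.map (algebraMap A (Localization.Away g))).comap (algebraMap A (Localization.Away g)) = P := by
    intro P _ hgP hP
    have hd : Disjoint (Submonoid.powers g : Set A) (P : Set A) := by
      rw [Set.disjoint_left]; rintro _ ⟨m, rfl⟩ hm; exact hgP (Ideal.IsPrime.mem_of_pow_mem ‹_› m hm)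
    have hc := IsLocalization.comap_map_of_isPrime_disjoint (Submonoid.powers g) (Localization.Away g) ‹P.IsPrime› hd
    refine ⟨?_, hc⟩
    rw [LinearEquiv.AssociatedPrimes.eq eg']
    exact Module.associatedPrimes.mem_associatedPrimes_of_comap_mem_associatedPrimes_of_isLocalizedModule (Submonoid.powers g)
      (LocalizedModule.mkLinearMap (Submonoid.powers g) _) (P.map (algebraMap A (Localization.Away g)))
      (show (P.map (algebraMap A (Localization.Away g))).comap (algebraMap A (Localization.Away g)) ∈ _ from
        (show (P.map (algebraMap A (Localization.Away g))).comap (algebraMap A (Localization.Away g)) = P from hc).symm ▸ hP)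
  obtain ⟨h1, hc1⟩ := key p (fun h => hg (hpq.le h)) hpass
  obtain ⟨h2, hc2⟩ := key q hg hqass
  have hlen : (L.map (algebraMap A (Localization.Away g))).length < k := by
    rw [List.length_map, hLl]; exact_mod_cast hnk
  exact hpq.ne (by rw [← hc1, ← hc2, H g _ hlen hgw _ h1 _ h2 (Ideal.map_mono hpq.le)])

theorem iff_no_embedded (k : ℕ) :
    LocCoh.HasSk k A M ↔
      ∀ (g : A) (rs : List (Localization.Away g)), rs.length < k →
        RingTheory.Sequence.IsWeaklyRegular (LocalizedModule (Submonoid.powers g) M) rs →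
        ∀ p ∈ associatedPrimes (Localization.Away g)
            (LocalizedModule (Submonoid.powers g) M ⧸
              (Ideal.ofList rs • (⊤ : Submodule (Localization.Away g) (LocalizedModule (Submonoid.powers g) M)))),
          ∀ q ∈ associatedPrimes (Localization.Away g)
            (LocalizedModule (Submonoid.powers g) M ⧸
              (Ideal.ofList rs • (⊤ : Submodule (Localization.Away g) (LocalizedModule (Submonoid.powers g) M)))),
            p ≤ q → p = q := by
  refine ⟨fun h g rs hlen hw p hp q hq hpq => ?_, hasSk_of_no_embedded k⟩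
  obtain ⟨L, hLl, hLw, hLe⟩ := exists_list (Submonoid.powers g) rs hw
  obtain ⟨eg⟩ := exists_equiv (M := M) (Submonoid.powers g) (Ideal.ofList L)
  let eg' := (Submodule.quotEquivOfEq _ _ (congrArg (fun I => I • (⊤ : Submodule (Localization.Away g) (LocalizedModule (Submonoid.powers g) M))) hLe)).trans eg
  rw [LinearEquiv.AssociatedPrimes.eq eg'] at hp hq
  haveI := (AssociatedPrimes.mem_iff.1 hq).isPrime
  have key : ∀ P ∈ associatedPrimes (Localization.Away g) (LocalizedModule (Submonoid.powers g) (M ⧸ (Ideal.ofList L • ⊤ : Submodule A M))),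
      P.comap (algebraMap A (Localization.Away g)) ∈ associatedPrimes A (M ⧸ (Ideal.ofList L • ⊤ : Submodule A M)) := fun P hP =>
    Module.associatedPrimes.comap_mem_associatedPrimes_of_mem_associatedPrimes_of_isLocalizedModule_of_fg
      (Submonoid.powers g) (LocalizedModule.mkLinearMap (Submonoid.powers g) _) P hP (IsNoetherian.noetherian _)
  have hgq : ∀ t ∈ Submonoid.powers g, t ∉ q.comap (algebraMap A (Localization.Away g)) := fun t ht hm =>
    Ideal.IsPrime.ne_top ‹q.IsPrime› (Ideal.eq_top_of_isUnit_mem _ hm (IsLocalization.map_units (Localization.Away g) ⟨t, ht⟩))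
  have hw' : IsWeaklyRegular (LocalizedModule (q.comap (algebraMap A (Localization.Away g))).primeCompl M)
      (L.map (algebraMap A (Localization.AtPrime (q.comap (algebraMap A (Localization.Away g)))))) := by
    rw [LocH.weaklyRegular_localized_iff]
    intro i hi m hm
    obtain ⟨t, ht, htm⟩ := (LocH.weaklyRegular_localized_iff _ L).1 hLw i hi m hm
    exact ⟨t, hgq t ht, htm⟩
  have := no_embedded k h L (hLl ▸ hlen) _ _ (key p hp) (key q hq) hw' (Ideal.comap_mono hpq)
  exact (IsLocalization.map_comap (Submonoid.powers g) (Localization.Away g) p).symm.trans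
    ((congrArg (Ideal.map (algebraMap A (Localization.Away g))) this).trans
      (IsLocalization.map_comap (Submonoid.powers g) (Localization.Away g) q))

end Groth.Agent.Easy4.SkSeq
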