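import Groth.Agent.S0320
import Groth.Agent.S11650
import Groth.Agent.Easy4.SkSeq
import Groth.Agent.Catenary.Flat
import Groth.Agent.FlatDepth.CMTensor
import Groth.Prelude.Def_EGA4b
import Mathlib

/-! `(S_k)` and equidimensionality from a hyperplane section. -/

set_option autoImplicit false
set_option maxSynthPendingDepth 3
set_option maxHeartbeats 1000000

namespace Groth.Agent.Easy4.Hyperplane

universe u

open IsLocalRing RingTheory.Sequence
open scoped Pointwise

variable {A : Type u} [CommRing A] [IsNoetherianRing A] {M : Type u} [AddCommGroup M] [Module A M] [Module.Finite A M]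

theorem min_cast_iff (k a b : ℕ) :
    min (k : WithBot ℕ∞) (a : WithBot ℕ∞) ≤ ((b : ℕ∞) : WithBot ℕ∞) ↔ min k a ≤ b := by
  have h : ∀ n : ℕ, (n : WithBot ℕ∞) ≤ ((b : ℕ∞) : WithBot ℕ∞) ↔ n ≤ b := fun n =>
    WithBot.coe_le_coe.trans Nat.cast_le
  rw [min_le_iff, min_le_iff, h, h]

theorem cast_le_iff (a b : ℕ) : (a : WithBot ℕ∞) ≤ (b : WithBot ℕ∞) ↔ a ≤ b :=
  (WithBot.coe_le_coe (a := (a : ℕ∞)) (b := (b : ℕ∞))).trans Nat.cast_le

theorem supportDim_add_one_le {p q : Ideal A} [p.IsPrime] [q.IsPrime] (hpq : p < q)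
    (hq : (⟨q, ‹_›⟩ : PrimeSpectrum A) ∈ Module.support A M) :
    Module.supportDim (Localization.AtPrime p) (LocalizedModule p.primeCompl M) + 1 ≤
      Module.supportDim (Localization.AtPrime q) (LocalizedModule q.primeCompl M) := by
  rw [FlatDepth.supportDim_localized_eq, FlatDepth.supportDim_localized_eq]
  rcases isEmpty_or_nonempty {x : PrimeSpectrum A // x ∈ Module.support A M ∧ x.asIdeal ≤ p} with he | he
  · rw [Order.krullDim_eq_bot, WithBot.bot_add]; exact bot_le
  rw [Order.krullDim_eq_iSup_length, ← WithBot.coe_one, ← WithBot.coe_add, ENat.iSup_add]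
  refine (WithBot.coe_le_coe.2 le_rfl).trans ?_
  haveI : Nonempty {x : PrimeSpectrum A // x ∈ Module.support A M ∧ x.asIdeal ≤ q} :=
    ⟨⟨⟨q, ‹_›⟩, hq, le_rfl⟩⟩
  rw [Order.krullDim_eq_iSup_length (α := {x : PrimeSpectrum A // x ∈ Module.support A M ∧ x.asIdeal ≤ q}),
    WithBot.coe_le_coe]
  refine iSup_le fun l => ?_
  let l' := (l.map (fun x => (⟨x.1, x.2.1, x.2.2.trans hpq.le⟩ : {x : PrimeSpectrum A // x ∈ Module.support A M ∧ x.asIdeal ≤ q}))
    fun a b h => h).snoc ⟨⟨q, ‹_›⟩, hq, le_rfl⟩ (by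
      rw [LTSeries.last_map]
      show (RelSeries.last l).1 < _
      exact lt_of_le_of_lt (show (RelSeries.last l).1 ≤ (⟨p, ‹_›⟩ : PrimeSpectrum A) from (RelSeries.last l).2.2) hpq)
  refine le_trans ?_ (le_iSup _ l')
  simp [l']

theorem exists_equiv_quot (p : Ideal A) [p.IsPrime] (t : A) :
    Nonempty (LocalizedModule p.primeCompl (QuotSMulTop t M) ≃ₗ[Localization.AtPrime p]
      QuotSMulTop (algebraMap A (Localization.AtPrime p) t) (LocalizedModule p.primeCompl M)) := by
  obtain ⟨e⟩ := SkSeq.exists_equiv (M := M) p.primeCompl (Ideal.span {t})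
  have e1 : (Ideal.span {t} • ⊤ : Submodule A M) = t • (⊤ : Submodule A M) := Submodule.ideal_span_singleton_smul t ⊤
  have e2 : ((Ideal.span {t}).map (algebraMap A (Localization.AtPrime p)) • ⊤ :
      Submodule (Localization.AtPrime p) (LocalizedModule p.primeCompl M)) =
      algebraMap A (Localization.AtPrime p) t • (⊤ : Submodule (Localization.AtPrime p) (LocalizedModule p.primeCompl M)) := by
    rw [Ideal.map_span, Set.image_singleton, Submodule.ideal_span_singleton_smul]
  let g : LocalizedModule p.primeCompl (QuotSMulTop t M) ≃ₗ[Localization.AtPrime p]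
      LocalizedModule p.primeCompl (M ⧸ (Ideal.span {t} • ⊤ : Submodule A M)) :=
    LinearEquiv.ofLinear
      (LocalizedModule.map _ (Submodule.quotEquivOfEq _ _ e1.symm).toLinearMap)
      (LocalizedModule.map _ (Submodule.quotEquivOfEq _ _ e1).toLinearMap)
      (LinearMap.ext fun z => by induction z using LocalizedModule.induction_on with | _ x s => ?_ <;> simp [LocalizedModule.map_mk] <;> obtain ⟨x, rfl⟩ := Submodule.Quotient.mk_surjective _ x <;> rfl)
      (LinearMap.ext fun z => by induction z using LocalizedModule.induction_on with | _ x s => ?_ <;> simp [LocalizedModule.map_mk] <;> obtain ⟨x, rfl⟩ := Submodule.Quotient.mk_surjective _ x <;> rfl)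
  exact ⟨g.trans (e.symm.trans (Submodule.quotEquivOfEq _ _ e2))⟩

/-- invariants at a prime containing `t`. -/
theorem at_prime_mem (t : A) (hreg : IsSMulRegular M t) (q : Ideal A) [q.IsPrime] (htq : t ∈ q)
    (hq : (⟨q, ‹_›⟩ : PrimeSpectrum A) ∈ Module.support A M) :
    ∃ (d e : ℕ), Module.supportDim (Localization.AtPrime q) (LocalizedModule q.primeCompl (QuotSMulTop t M)) = d ∧
      LocCoh.depth (Localization.AtPrime q) (LocalizedModule q.primeCompl (QuotSMulTop t M)) = e ∧
      Module.supportDim (Localization.AtPrime q) (LocalizedModule q.primeCompl M) = ((d + 1 : ℕ) : WithBot ℕ∞) ∧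
      LocCoh.depth (Localization.AtPrime q) (LocalizedModule q.primeCompl M) = ((e + 1 : ℕ) : ℕ∞) := by
  obtain ⟨g⟩ := exists_equiv_quot (M := M) q t
  haveI := Module.mem_support_iff.1 hq
  haveI : IsNoetherianRing (Localization.AtPrime q) := IsLocalization.isNoetherianRing q.primeCompl _ inferInstance
  set t' := algebraMap A (Localization.AtPrime q) t
  have ht' : t' ∈ maximalIdeal (Localization.AtPrime q) := (IsLocalization.AtPrime.to_map_mem_maximal_iff _ q t).2 htq
  have hreg' : IsSMulRegular (LocalizedModule q.primeCompl M) t' := by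
    intro x y hxy
    induction x using LocalizedModule.induction_on with
    | _ m s =>
    induction y using LocalizedModule.induction_on with
    | _ n r =>
      simp only [t', algebraMap_smul, LocalizedModule.smul'_mk] at hxy
      rw [LocalizedModule.mk_eq] at hxy ⊢
      obtain ⟨u, hu⟩ := hxy
      refine ⟨u, hreg ?_⟩
      simp only [Submonoid.smul_def, smul_smul] at hu ⊢
      convert hu using 2 <;> ring
  have hm := IsLocalRing.maximalIdeal_le_jacobson (Module.annihilator (Localization.AtPrime q) (LocalizedModule q.primeCompl M))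
  haveI : Nontrivial (QuotSMulTop t' (LocalizedModule q.primeCompl M)) := by
    rw [Submodule.Quotient.nontrivial_iff, ne_comm, ← Submodule.ideal_span_singleton_smul]
    exact Submodule.top_ne_ideal_smul_of_le_jacobson_annihilator (((Ideal.span_singleton_le_iff_mem _).2 ht').trans hm)
  obtain ⟨d, hd⟩ := QGorD.exists_nat_supportDim (R := Localization.AtPrime q) (QuotSMulTop t' (LocalizedModule q.primeCompl M))
  have hd2 := Module.supportDim_add_length_eq_supportDim_of_isRegular (M := LocalizedModule q.primeCompl M) [t']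
    ((IsLocalRing.isRegular_iff_isWeaklyRegular_of_subset_maximalIdeal (by simpa using ht')).2
      ((isWeaklyRegular_singleton_iff _ t').2 hreg'))
  rw [Ideal.ofList_singleton, Submodule.ideal_span_singleton_smul, hd] at hd2
  have hIM : maximalIdeal (Localization.AtPrime q) • (⊤ : Submodule (Localization.AtPrime q) (LocalizedModule q.primeCompl M)) ≠ ⊤ :=
    (Submodule.top_ne_ideal_smul_of_le_jacobson_annihilator hm).symm
  obtain ⟨n, hn⟩ := ENat.ne_top_iff_exists.1 (LocH.idealDepth_ne_top hIM)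
  have hdep := S0320.result (Localization.AtPrime q) (maximalIdeal _) (LocalizedModule q.primeCompl M) hIM t' ht' hreg'
  rw [← hn] at hdep
  obtain ⟨e, he⟩ := ENat.ne_top_iff_exists.1 (show LocCoh.idealDepth (maximalIdeal (Localization.AtPrime q))
    (QuotSMulTop t' (LocalizedModule q.primeCompl M)) ≠ ⊤ from fun h => by rw [h, top_add] at hdep; exact ENat.natCast_ne_top n hdep.symm)
  refine ⟨d, e, (Module.supportDim_eq_of_equiv g).trans hd, (LocH.idealDepth_congr g _).trans he.symm, ?_, ?_⟩
  · rw [← hd2]; simp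
  · rw [LocCoh.depth, ← hn]
    rw [← he] at hdep
    rw [← hdep]; simp

variable [IsLocalRing A]

theorem exists_over {p : Ideal A} [p.IsPrime] {t : A} (ht : t ∈ maximalIdeal A) (htp : t ∉ p) :
    ∃ (q : Ideal A) (_ : q.IsPrime), q ∈ (p ⊔ Ideal.span {t}).minimalPrimes ∧ p < q ∧ t ∈ q ∧
      (q.map (Ideal.Quotient.mk p)).height = 1 := by
  obtain ⟨q, hq, -⟩ := Ideal.exists_minimalPrimes_le
    (show p ⊔ Ideal.span {t} ≤ maximalIdeal A from sup_le (le_maximalIdeal (Ideal.IsPrime.ne_top ‹_›)) ((Ideal.span_singleton_le_iff_mem _).2 ht))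
  haveI := hq.1.1
  have hpq : p ≤ q := le_sup_left.trans hq.1.2
  have htq : t ∈ q := hq.1.2 (Ideal.mem_sup_right (Ideal.mem_span_singleton_self t))
  refine ⟨q, hq.1.1, hq, lt_of_le_of_ne hpq fun h => htp (h ▸ htq), htq, ?_⟩
  haveI : (q.map (Ideal.Quotient.mk p)).IsPrime :=
    Ideal.map_isPrime_of_surjective Ideal.Quotient.mk_surjective (by rwa [Ideal.mk_ker])
  have hcq : (q.map (Ideal.Quotient.mk p)).comap (Ideal.Quotient.mk p) = q := by
    rw [Ideal.comap_map_of_surjective _ Ideal.Quotient.mk_surjective, ← RingHom.ker_eq_comap_bot, Ideal.mk_ker,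
      sup_eq_left.mpr hpq]
  have hmin : q.map (Ideal.Quotient.mk p) ∈ (Ideal.span {Ideal.Quotient.mk p t}).minimalPrimes := by
    refine ⟨⟨inferInstance, (Ideal.span_singleton_le_iff_mem _).2 (Ideal.mem_map_of_mem _ htq)⟩, fun P hP hPq => ?_⟩
    haveI := hP.1
    have h1 : q ≤ P.comap (Ideal.Quotient.mk p) := hq.2 ⟨inferInstance, sup_le (fun x hx => by
        rw [Ideal.mem_comap, Ideal.Quotient.eq_zero_iff_mem.2 hx]; exact zero_mem _)
      ((Ideal.span_singleton_le_iff_mem _).2 (hP.2 (Ideal.mem_span_singleton_self _)))⟩ (hcq ▸ Ideal.comap_mono hPq)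
    exact (Ideal.map_mono h1).trans (Ideal.map_comap_le)
  haveI : (Ideal.span {Ideal.Quotient.mk p t}).IsPrincipal := ⟨⟨_, rfl⟩⟩
  refine le_antisymm (Ideal.height_le_one_of_isPrincipal_of_mem_minimalPrimes _ _ hmin) (Order.one_le_iff_pos.2 ?_)
  have hne : (⊥ : Ideal (A ⧸ p)) < q.map (Ideal.Quotient.mk p) := bot_lt_iff_ne_bot.2 fun h => htp
    (Ideal.Quotient.eq_zero_iff_mem.1 (Ideal.mem_bot.1 (h ▸ Ideal.mem_map_of_mem _ htq)))
  haveI : Ideal.FiniteHeight (q.map (Ideal.Quotient.mk p)) := Ideal.finiteHeight_of_isNoetherianRing _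
  exact lt_of_le_of_lt bot_le (Ideal.height_strict_mono_of_isPrime_of_isPrime hne)

theorem mem_support_quot {t : A} {q : Ideal A} [q.IsPrime] (htq : t ∈ q)
    (hq : (⟨q, ‹_›⟩ : PrimeSpectrum A) ∈ Module.support A M) :
    (⟨q, ‹_›⟩ : PrimeSpectrum A) ∈ Module.support A (QuotSMulTop t M) := by
  rw [Module.support_quotSMulTop]
  exact ⟨hq, by simpa using htq⟩

theorem hasSk (k : ℕ) (t : A) (ht : t ∈ maximalIdeal A) (hreg : IsSMulRegular M t)
    (hS : LocCoh.HasSk k A (QuotSMulTop t M)) : LocCoh.HasSk k A M := by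
  intro p hp
  by_cases hsupp : (⟨p, hp⟩ : PrimeSpectrum A) ∈ Module.support A M
  swap
  · haveI : Subsingleton (LocalizedModule p.primeCompl M) := Module.notMem_support_iff.1 hsupp
    rw [FlatDepth.depth_eq_top]
    exact le_top
  by_cases htp : t ∈ p
  · obtain ⟨d, e, hd, he, hd', he'⟩ := at_prime_mem t hreg p htp hsupp
    have h := hS p
    rw [hd, he] at h
    rw [hd', he']
    rw [min_cast_iff] at h ⊢
    omega
  obtain ⟨q, hq, -, hpq, htq, hht⟩ := exists_over ht htp
  have hqs : (⟨q, hq⟩ : PrimeSpectrum A) ∈ Module.support A M := Module.mem_support_mono hpq.le hsupp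
  obtain ⟨d, e, hd, he, hd', he'⟩ := at_prime_mem t hreg q htq hqs
  have h := hS q
  rw [hd, he] at h
  have hdp := supportDim_add_one_le (M := M) hpq hqs
  rw [hd'] at hdp
  have hdepth := S11650.result A M p q hpq.le
  rw [hht, he'] at hdepth
  haveI := Module.mem_support_iff.1 hsupp
  obtain ⟨a, ha⟩ := QGorD.exists_nat_supportDim (R := Localization.AtPrime p) (LocalizedModule p.primeCompl M)
  rw [ha] at hdp ⊢
  cases hD : LocCoh.depth (Localization.AtPrime p) (LocalizedModule p.primeCompl M) with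
  | top => exact le_top
  | coe b =>
    rw [hD] at hdepth
    replace hdp : ((a + 1 : ℕ) : WithBot ℕ∞) ≤ ((d + 1 : ℕ) : WithBot ℕ∞) := by simpa only [Nat.cast_add, Nat.cast_one] using hdp
    replace hdepth : ((e + 1 : ℕ) : ℕ∞) ≤ ((b + 1 : ℕ) : ℕ∞) := by simpa only [Nat.cast_add, Nat.cast_one] using! hdepth
    rw [cast_le_iff] at hdp
    rw [Nat.cast_le] at hdepth
    show min (k : WithBot ℕ∞) (a : WithBot ℕ∞) ≤ ((b : ℕ∞) : WithBot ℕ∞)
    rw [min_cast_iff] at h ⊢
    omega

theorem isEquidim (hcat : CAlg.IsCatenary A) (k : ℕ) (hk : 1 ≤ k) (t : A) (ht : t ∈ maximalIdeal A)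
    (hreg : IsSMulRegular M t) (heq : EGA4.IsEquidimModule A (QuotSMulTop t M))
    (hS : LocCoh.HasSk k A (QuotSMulTop t M)) : EGA4.IsEquidimModule A M := by
  intro p hp
  haveI := hp.1.1
  have hsupp : (⟨p, hp.1.1⟩ : PrimeSpectrum A) ∈ Module.support A M := Module.mem_support_iff_of_finite.2 hp.1.2
  have hass : p ∈ associatedPrimes A M := Module.associatedPrimes.minimalPrimes_annihilator_subset_associatedPrimes A M hp
  have htp : t ∉ p := fun h => by
    obtain ⟨hpp, y, hy⟩ := (isAssociatedPrime_iff_exists_injective_linearMap _ _).1 hass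
    have h0 : t • y (Ideal.Quotient.mk p 1) = 0 := by
      rw [← map_smul, show t • Ideal.Quotient.mk p 1 = (0 : A ⧸ p) from Ideal.Quotient.eq_zero_iff_mem.2 (by simpa using h), map_zero]
    exact hpp.ne_top ((Ideal.eq_top_iff_one _).2 (Ideal.Quotient.eq_zero_iff_mem.1 (hy ((hreg.right_eq_zero_of_smul h0).trans (map_zero y).symm))))
  obtain ⟨q, hq, -, hpq, htq, hht⟩ := exists_over ht htp
  have hqs : (⟨q, hq⟩ : PrimeSpectrum A) ∈ Module.support A M := Module.mem_support_mono hpq.le hsupp
  have hqN := mem_support_quot (M := M) (t := t) htq hqs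
  have hqmin : q ∈ (Module.annihilator A (QuotSMulTop t M)).minimalPrimes := by
    refine ⟨⟨hq, Module.mem_support_iff_of_finite.1 hqN⟩, fun q0 hq0 hle => ?_⟩
    by_contra hne
    haveI := hq0.1
    obtain ⟨d, e, hd, he, -, he'⟩ := at_prime_mem t hreg q htq hqs
    have h := hS q
    rw [hd, he] at h
    have hdim : (1 : WithBot ℕ∞) ≤ Module.supportDim (Localization.AtPrime q) (LocalizedModule q.primeCompl (QuotSMulTop t M)) := by
      rw [FlatDepth.supportDim_localized_eq, Order.one_le_krullDim_iff]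
      exact ⟨⟨⟨q0, hq0.1⟩, Module.mem_support_iff_of_finite.2 hq0.2, hle⟩, ⟨⟨q, hq⟩, hqN, le_rfl⟩,
        lt_of_le_not_ge hle fun h' => hne h'⟩
    rw [hd] at hdim
    have hdepth := S11650.result A M p q hpq.le
    rw [hht, he', LocH.depth_eq_zero_of_associated M hass] at hdepth
    replace hdim : ((1 : ℕ) : WithBot ℕ∞) ≤ (d : WithBot ℕ∞) := by simpa only [Nat.cast_one] using hdim
    replace hdepth : ((e + 1 : ℕ) : ℕ∞) ≤ ((1 : ℕ) : ℕ∞) := by simpa only [zero_add, Nat.cast_one] using hdepth
    rw [cast_le_iff] at hdim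
    rw [Nat.cast_le] at hdepth
    rw [min_cast_iff] at h
    omega
  have hNdim := heq q hqmin
  haveI : Nontrivial M := by
    by_contra hsub
    rw [not_nontrivial_iff_subsingleton] at hsub
    rw [Module.support_eq_empty] at hsupp
    exact hsupp
  have hdimM : Module.supportDim A (QuotSMulTop t M) + 1 = Module.supportDim A M :=
    Module.supportDim_quotSMulTop_succ_eq_of_notMem_minimalPrimes_of_mem_jacobson
      (fun P hP htP => by
        obtain ⟨hpp, y, hy⟩ := (isAssociatedPrime_iff_exists_injective_linearMap _ _).1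
          (Module.associatedPrimes.minimalPrimes_annihilator_subset_associatedPrimes A M hP)
        have h0 : t • y (Ideal.Quotient.mk P 1) = 0 := by
          rw [← map_smul, show t • Ideal.Quotient.mk P 1 = (0 : A ⧸ P) from Ideal.Quotient.eq_zero_iff_mem.2 (by simpa using htP), map_zero]
        exact hpp.ne_top ((Ideal.eq_top_iff_one _).2 (Ideal.Quotient.eq_zero_iff_mem.1 (hy ((hreg.right_eq_zero_of_smul h0).trans (map_zero y).symm)))))
      (IsLocalRing.maximalIdeal_le_jacobson _ ht)
  haveI : (q.map (Ideal.Quotient.mk p)).IsPrime :=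
    Ideal.map_isPrime_of_surjective Ideal.Quotient.mk_surjective (by rw [Ideal.mk_ker]; exact hpq.le)
  haveI : IsLocalRing (A ⧸ p) := IsLocalRing.of_surjective' _ Ideal.Quotient.mk_surjective
  have hadd := Catenary.dim_domain_add (Catenary.isCatenary_of_surjective _ Ideal.Quotient.mk_surjective hcat) (q.map (Ideal.Quotient.mk p))
  rw [ringKrullDim_eq_of_ringEquiv (DoubleQuot.quotQuotEquivQuotOfLE hpq.le), hNdim, hht] at hadd
  rw [← hdimM, ← hadd]
  rfl

end Groth.Agent.Easy4.Hyperplane
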