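import Groth.Agent.ArtKit.PSRing
import Mathlib

/-! The Morse lemma for formal power series. -/

set_option autoImplicit false
set_option maxHeartbeats 800000

namespace Groth.Agent.Easy4.Morse

open IsLocalRing

universe u v

variable {σ : Type v} {R : Type u} {S : Type u} [CommRing R] [CommRing S] [Algebra R S]

theorem aeval_sub_mem (P : MvPolynomial σ R) {J : Ideal S} (y z : σ → S) (h : ∀ i, y i - z i ∈ J) :
    MvPolynomial.aeval y P - MvPolynomial.aeval z P ∈ J := by
  rw [← Ideal.Quotient.eq]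
  have : (Ideal.Quotient.mkₐ R J).comp (MvPolynomial.aeval y) = (Ideal.Quotient.mkₐ R J).comp (MvPolynomial.aeval z) :=
    MvPolynomial.algHom_ext fun i => by simpa using Ideal.Quotient.eq.2 (h i)
  exact DFunLike.congr_fun this P

theorem taylor [Fintype σ] (P : MvPolynomial σ R) {J : Ideal S} (y δ : σ → S) (h : ∀ i, δ i ∈ J) :
    MvPolynomial.aeval (fun i => y i + δ i) P - MvPolynomial.aeval y P
      - ∑ i, δ i * MvPolynomial.aeval y (MvPolynomial.pderiv i P) ∈ J * J := by
  induction P using MvPolynomial.induction_on with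
  | C a => simp
  | add p q hp hq =>
    have : ∑ i, δ i * MvPolynomial.aeval y (MvPolynomial.pderiv i (p + q)) =
        ∑ i, δ i * MvPolynomial.aeval y (MvPolynomial.pderiv i p) + ∑ i, δ i * MvPolynomial.aeval y (MvPolynomial.pderiv i q) := by
      simp [mul_add, Finset.sum_add_distrib]
    rw [this, map_add, map_add]
    convert add_mem hp hq using 1
    ring
  | mul_X p j hp =>
    classical
    have e : ∑ i, δ i * MvPolynomial.aeval y (MvPolynomial.pderiv i (p * MvPolynomial.X j)) =
        (∑ i, δ i * MvPolynomial.aeval y (MvPolynomial.pderiv i p)) * y j + δ j * MvPolynomial.aeval y p := by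
      simp only [MvPolynomial.pderiv_mul, map_add, map_mul, MvPolynomial.aeval_X, mul_add, Finset.sum_add_distrib,
        MvPolynomial.pderiv_X, Finset.sum_mul, mul_assoc, Pi.single_apply]
      congr 1
      rw [Finset.sum_eq_single j (fun b _ hb => by simp [Ne.symm hb]) (by simp)]
      simp
    rw [map_mul, map_mul, MvPolynomial.aeval_X, MvPolynomial.aeval_X, e]
    have h2 : δ j * (MvPolynomial.aeval (fun i => y i + δ i) p - MvPolynomial.aeval y p) ∈ J * J :=
      Ideal.mul_mem_mul (h j) (aeval_sub_mem p _ _ fun i => by simpa using h i)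
    convert add_mem (Ideal.mul_mem_right (y j) _ hp) h2 using 1
    ring

theorem mem_pow_iff {k : Type u} [Field k] {n : ℕ} (g : MvPowerSeries (Fin n) k) (j : ℕ) :
    g ∈ maximalIdeal (MvPowerSeries (Fin n) k) ^ j ↔
      ∀ d : Fin n →₀ ℕ, d.degree < j → MvPowerSeries.coeff d g = 0 := by
  refine ⟨fun hg d hd => ?_, fun hg => ArtKit.coeffFilt_le_pow j fun d => ?_⟩
  · have := ArtKit.pow_le_coeffFilt j hg d
    rw [IsLocalRing.maximalIdeal_eq_bot, ← Ideal.zero_eq_bot, zero_pow (by omega)] at this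
    exact this
  · rcases lt_or_ge d.degree j with hd | hd
    · rw [hg d hd]; exact zero_mem _
    · rw [Nat.sub_eq_zero_of_le hd, pow_zero, Ideal.one_eq_top]; trivial

theorem exists_subst {k : Type} [Field k] (n : ℕ) (f : MvPowerSeries (Fin n) k)
    (hf0 : MvPowerSeries.constantCoeff f = 0)
    (hJ : Ideal.span (Set.range fun i : Fin n => MvPowerSeries.pderiv k i f) =
      IsLocalRing.maximalIdeal (MvPowerSeries (Fin n) k)) :
    ∃ (ε : Fin n → MvPowerSeries (Fin n) k) (_ : ∀ i (m : Fin n →₀ ℕ), m.degree < 2 → MvPowerSeries.coeff m (ε i) = 0)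
      (q : MvPolynomial (Fin n) k) (_ : q.IsHomogeneous 2)
      (_ : MvPowerSeries.HasSubst (fun i : Fin n => MvPowerSeries.X i + ε i)),
      f = MvPowerSeries.subst (fun i : Fin n => MvPowerSeries.X i + ε i) (q : MvPowerSeries (Fin n) k) := by
  classical
  set m := maximalIdeal (MvPowerSeries (Fin n) k) with hm
  haveI : IsAdicComplete (maximalIdeal k) k := by
    rw [IsLocalRing.maximalIdeal_eq_bot]; infer_instance
  haveI : IsAdicComplete m (MvPowerSeries (Fin n) k) := ArtKit.isAdicComplete_mvPowerSeries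
  let q : MvPolynomial (Fin n) k :=
    ∑ d ∈ (Finset.univ : Finset (Fin n)).finsuppAntidiag 2, MvPolynomial.monomial d (MvPowerSeries.coeff d f)
  have hmem : ∀ d : Fin n →₀ ℕ, d ∈ (Finset.univ : Finset (Fin n)).finsuppAntidiag 2 ↔ d.degree = 2 := fun d => by
    simp [Finsupp.degree_eq_sum]
  have hq : q.IsHomogeneous 2 :=
    MvPolynomial.IsHomogeneous.sum _ _ _ fun d hd => MvPolynomial.isHomogeneous_monomial _ ((hmem d).1 hd)
  have hqc : ∀ d, MvPowerSeries.coeff d (q : MvPowerSeries (Fin n) k) = if d.degree = 2 then MvPowerSeries.coeff d f else 0 := by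
    intro d
    rw [MvPolynomial.coeff_coe, MvPolynomial.coeff_sum]
    simp only [MvPolynomial.coeff_monomial]
    rw [Finset.sum_ite_eq']
    exact if_congr (hmem d) rfl rfl
  have hfq : f - (q : MvPowerSeries (Fin n) k) ∈ m ^ 3 := by
    rw [mem_pow_iff]
    intro d hd
    rw [map_sub, hqc]
    split_ifs with h2
    · rw [sub_self]
    · rw [sub_zero]
      rcases Nat.lt_or_ge d.degree 1 with h0 | h1
      · rw [(Finsupp.degree_eq_zero_iff d).1 (by omega), MvPowerSeries.coeff_zero_eq_constantCoeff_apply, hf0]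
      · obtain ⟨i, rfl⟩ : ∃ i, d = Finsupp.single i 1 := by
          obtain ⟨i, hi⟩ : ∃ i, d i ≠ 0 := Finsupp.ne_iff.1 (show d ≠ 0 from fun h => by simp [h] at h1)
          have hle : Finsupp.single i 1 ≤ d := Finsupp.single_le_iff.2 (Nat.one_le_iff_ne_zero.2 hi)
          refine ⟨i, ?_⟩
          have h3 : (d - Finsupp.single i 1).degree = 0 := by
            have h4 := congrArg Finsupp.degree (tsub_add_cancel_of_le hle)
            rw [map_add, Finsupp.degree_single] at h4
            omega
          rw [← tsub_add_cancel_of_le hle, (Finsupp.degree_eq_zero_iff _).1 h3, zero_add]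
        have h : MvPowerSeries.pderiv k i f ∈ m := hJ ▸ Ideal.subset_span ⟨i, rfl⟩
        rw [hm, ← pow_one (maximalIdeal _), mem_pow_iff] at h
        simpa [MvPowerSeries.coeff_pderiv] using h 0 (by simp)
  let Jy : (Fin n → MvPowerSeries (Fin n) k) → Fin n → MvPowerSeries (Fin n) k :=
    fun y i => MvPolynomial.aeval y (MvPolynomial.pderiv i q)
  let Y : (Fin n → MvPowerSeries (Fin n) k) → Fin n → MvPowerSeries (Fin n) k := fun e i => MvPowerSeries.X i + e i
  have hcoe : ∀ P : MvPolynomial (Fin n) k,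
      MvPolynomial.aeval (fun i => (MvPowerSeries.X i : MvPowerSeries (Fin n) k)) P = (P : MvPowerSeries (Fin n) k) := by
    intro P
    induction P using MvPolynomial.induction_on with
    | C a => simp [MvPowerSeries.algebraMap_apply]
    | add p q hp hq => simp [hp, hq]
    | mul_X p i hp => simp [hp]
  have hder : ∀ i, MvPowerSeries.pderiv k i f - Jy (fun i => MvPowerSeries.X i) i ∈ m ^ 2 := by
    intro i
    simp only [Jy]
    rw [hcoe, ← MvPowerSeries.pderiv_coe, ← map_sub, mem_pow_iff]
    intro d hd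
    rw [mem_pow_iff] at hfq
    rw [MvPowerSeries.coeff_pderiv, hfq _ (by rw [map_add, Finsupp.degree_single]; omega)]
    simp
  have hspan : ∀ e : Fin n → MvPowerSeries (Fin n) k, (∀ i, e i ∈ m ^ 2) →
      Ideal.span (Set.range (Jy (Y e))) = m := by
    intro e he
    have h1 : ∀ i, MvPowerSeries.pderiv k i f - Jy (Y e) i ∈ m ^ 2 := fun i => by
      have := add_mem (hder i) (aeval_sub_mem (MvPolynomial.pderiv i q) (J := m ^ 2) (fun i => MvPowerSeries.X i) (Y e)
        fun j => by simpa [Y] using he j)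
      simpa [Jy] using this
    have hJm : Ideal.span (Set.range (Jy (Y e))) ≤ m := by
      rw [Ideal.span_le]
      rintro _ ⟨i, rfl⟩
      have h2 : MvPowerSeries.pderiv k i f ∈ m := hJ ▸ Ideal.subset_span ⟨i, rfl⟩
      simpa using sub_mem h2 (Ideal.pow_le_self two_ne_zero (h1 i))
    refine le_antisymm hJm (Submodule.le_of_le_smul_of_le_jacobson_bot (I := m) ?_ ?_ ?_)
    · rw [← hJ]; exact Submodule.fg_span (Set.finite_range _)
    · rw [IsLocalRing.jacobson_eq_maximalIdeal _ bot_ne_top]
    · conv_lhs => rw [← hJ]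
      rw [Ideal.span_le]
      rintro _ ⟨i, rfl⟩
      have h3 := h1 i
      rw [sq] at h3
      have := Submodule.add_mem_sup (Ideal.subset_span (Set.mem_range_self (f := Jy (Y e)) i)) h3
      simpa using this
  have step : ∀ (j : ℕ) (e : Fin n → MvPowerSeries (Fin n) k), ∃ e' : Fin n → MvPowerSeries (Fin n) k,
      ((∀ i, e i ∈ m ^ 2) ∧ f - MvPolynomial.aeval (Y e) q ∈ m ^ (j + 3)) →
      ((∀ i, e' i ∈ m ^ 2) ∧ f - MvPolynomial.aeval (Y e') q ∈ m ^ (j + 1 + 3)) ∧ ∀ i, e' i - e i ∈ m ^ j := by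
    intro j e
    by_cases h : (∀ i, e i ∈ m ^ 2) ∧ f - MvPolynomial.aeval (Y e) q ∈ m ^ (j + 3)
    swap
    · exact ⟨e, fun h' => absurd h' h⟩
    obtain ⟨he, hd⟩ := h
    have hd' : f - MvPolynomial.aeval (Y e) q ∈ m ^ (j + 2) • Ideal.span (Set.range (Jy (Y e))) := by
      rw [hspan e he, smul_eq_mul, ← pow_succ]; exact hd
    obtain ⟨a, ha, hsum⟩ := (Submodule.mem_ideal_smul_span_iff_exists_sum (m ^ (j + 2)) (Jy (Y e)) _).1 hd'
    refine ⟨fun i => e i + a i, fun _ => ⟨⟨fun i => add_mem (he i) (Ideal.pow_le_pow_right (by omega) (ha i)), ?_⟩,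
      fun i => by simpa using Ideal.pow_le_pow_right (by omega : j ≤ j + 2) (ha i)⟩⟩
    have ht := taylor q (J := m ^ (j + 2)) (Y e) (⇑a) ha
    rw [← pow_add] at ht
    have hs : ∑ i, a i * MvPolynomial.aeval (Y e) (MvPolynomial.pderiv i q) = f - MvPolynomial.aeval (Y e) q := by
      rw [← hsum, Finsupp.sum_fintype]
      · rfl
      · intro i; exact zero_smul _ _
    rw [hs] at ht
    have hY : Y (fun i => e i + a i) = fun i => Y e i + a i := funext fun i => (add_assoc _ _ _).symm
    rw [hY]
    convert Ideal.pow_le_pow_right (by omega : j + 1 + 3 ≤ (j + 2) + (j + 2)) (neg_mem ht) using 1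
    ring
  choose next hnext using step
  let E : ℕ → (Fin n → MvPowerSeries (Fin n) k) := fun j => Nat.rec (fun _ => 0) (fun j e => next j e) j
  have hE : ∀ j, (∀ i, E j i ∈ m ^ 2) ∧ f - MvPolynomial.aeval (Y (E j)) q ∈ m ^ (j + 3) := by
    intro j
    induction j with
    | zero =>
      refine ⟨fun i => zero_mem _, ?_⟩
      have : Y (E 0) = fun i => MvPowerSeries.X i := funext fun i => add_zero _
      rw [this, hcoe]
      exact hfq
    | succ j ih => exact (hnext j _ ih).1
  have hC : ∀ i, ∃ L, ∀ j, E j i - L ∈ m ^ j := by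
    intro i
    have hc : ∀ {a b : ℕ}, a ≤ b → E a i ≡ E b i [SMOD (m ^ a • ⊤ : Submodule (MvPowerSeries (Fin n) k) _)] := by
      intro a b hab
      induction hab with
      | refl => rfl
      | @step b hab ih =>
        refine ih.trans (SModEq.symm ?_)
        rw [SModEq.sub_mem, smul_eq_mul, Ideal.mul_top]
        exact Ideal.pow_le_pow_right hab ((hnext b _ (hE b)).2 i)
    obtain ⟨L, hL⟩ := IsPrecomplete.prec' (I := m) (fun j => E j i) hc
    exact ⟨L, fun j => by simpa only [SModEq.sub_mem, smul_eq_mul, Ideal.mul_top] using hL j⟩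
  choose L hL using hC
  have hL2 : ∀ i, L i ∈ m ^ 2 := fun i => by simpa using sub_mem ((hE 2).1 i) (hL i 2)
  have heq : f = MvPolynomial.aeval (Y L) q := by
    rw [← sub_eq_zero]
    refine IsHausdorff.haus' (I := m) _ fun j => ?_
    rw [SModEq.zero, smul_eq_mul, Ideal.mul_top]
    have := add_mem (Ideal.pow_le_pow_right (by omega : j ≤ j + 3) (hE j).2)
      (aeval_sub_mem q (J := m ^ j) (Y (E j)) (Y L) fun i => by simpa [Y] using hL i j)
    simpa using this
  have hsub : MvPowerSeries.HasSubst (fun i : Fin n => MvPowerSeries.X i + L i) := by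
    refine MvPowerSeries.hasSubst_of_constantCoeff_zero fun i => ?_
    have := (mem_pow_iff (L i) 2).1 (hL2 i) 0 (by simp)
    rw [MvPowerSeries.coeff_zero_eq_constantCoeff_apply] at this
    simp [this]
  refine ⟨L, fun i d hd => (mem_pow_iff (L i) 2).1 (hL2 i) d hd, q, hq, hsub, ?_⟩
  rw [MvPowerSeries.subst_coe]
  exact heq

end Groth.Agent.Easy4.Morse
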