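import Groth.Agent.Easy4.SecMap

/-! Finiteness of the sections of `M~` off `V(J)`. -/

set_option autoImplicit false

namespace Groth.Agent.Easy4.PushFin

universe u

open AlgebraicGeometry CategoryTheory Opposite TopologicalSpace Groth.Agent.LocH Groth.Agent.Easy4.SecMap

variable {A : Type u} [CommRing A] (J : Ideal A) (M : Type u) [AddCommGroup M] [Module A M]

/-- sections off `V(J)` are finite. -/
def Fin' : Prop := Module.Finite A (Sec A M (EGA4.openCompl A J))

abbrev RTop (A : Type u) [CommRing A] : Type u := (Spec (CommRingCat.of A)).ringCatSheaf.obj.obj (op ⊤)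

noncomputable abbrev XU : ModuleCat (RTop A) :=
  (ModuleCat.restrictScalars ((Spec (CommRingCat.of A)).ringCatSheaf.obj.map
    (homOfLE (le_top : EGA4.openCompl A J ≤ ⊤)).op).hom).obj ((EGA4.tildeOf A M).val.obj (op (EGA4.openCompl A J)))

noncomputable def σ (A : Type u) [CommRing A] : A →+* RTop A := (Scheme.ΓSpecIso (CommRingCat.of A)).inv.hom

theorem σ_bijective (A : Type u) [CommRing A] : Function.Bijective (σ A) :=
  ConcreteCategory.bijective_of_isIso (Scheme.ΓSpecIso (CommRingCat.of A)).inv

noncomputable def toXU : Sec A M (EGA4.openCompl A J) →ₛₗ[σ A] XU J M where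
  toFun s := s
  map_add' _ _ := rfl
  map_smul' _ _ := rfl

theorem push_iff : EGA4.IsCoherentPushCompl A J M ↔ Fin' J M := by
  haveI : RingHomSurjective (σ A) := ⟨(σ_bijective A).2⟩
  constructor
  · intro h
    let e := RingEquiv.ofBijective (σ A) (σ_bijective A)
    let g : XU J M →ₛₗ[e.symm.toRingHom] Sec A M (EGA4.openCompl A J) :=
      { toFun := fun s => s
        map_add' := fun _ _ => rfl
        map_smul' := fun r s => by
          obtain ⟨a, rfl⟩ := (σ_bijective A).2 r
          rw [show e.symm.toRingHom (σ A a) = a from e.symm_apply_apply a]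
          rfl }
    haveI : RingHomSurjective e.symm.toRingHom := ⟨e.symm.surjective⟩
    haveI : Module.Finite (RTop A) (XU J M) := h
    exact Module.Finite.of_surjective g fun s => ⟨s, rfl⟩
  · intro h
    haveI : Module.Finite A (Sec A M (EGA4.openCompl A J)) := h
    exact Module.Finite.of_surjective (toXU J M) fun s => ⟨s, rfl⟩

variable [IsNoetherianRing A] {J} {M}

theorem fin_of_injective {N : Type u} [AddCommGroup N] [Module A N] {φ : M →ₗ[A] N} (hφ : Function.Injective φ)
    (h : Fin' J N) : Fin' J M :=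
  haveI : Module.Finite A (Sec A N (EGA4.openCompl A J)) := h
  Module.Finite.of_injective (secMap φ _) (secMap_injective hφ _)

theorem fin_of_exact {N P : Type u} [AddCommGroup N] [Module A N] [AddCommGroup P] [Module A P]
    {φ : M →ₗ[A] N} (hφ : Function.Injective φ) {ψ : N →ₗ[A] P} (hex : Function.Exact φ ψ)
    (hM : Fin' J M) (hP : Fin' J P) : Fin' J N := by
  haveI : Module.Finite A (Sec A M (EGA4.openCompl A J)) := hM
  haveI : Module.Finite A (Sec A P (EGA4.openCompl A J)) := hP
  haveI : IsNoetherian A (Sec A P (EGA4.openCompl A J)) := isNoetherian_of_isNoetherianRing_of_finite _ _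
  haveI : IsNoetherian A (Sec A M (EGA4.openCompl A J)) := isNoetherian_of_isNoetherianRing_of_finite _ _
  haveI : IsNoetherian A (Sec A N (EGA4.openCompl A J)) := by
    refine isNoetherian_of_range_eq_ker (secMap φ _) (secMap ψ _) (le_antisymm ?_ fun s hs => secMap_exact hφ hex _ hs)
    rintro _ ⟨t, rfl⟩
    refine sec_ext fun x hx => ?_
    obtain ⟨f, hxf, hfU⟩ := exists_basicOpen_le hx
    refine ⟨f, hfU, hxf, ?_⟩
    rw [map_zero, secRes_secMap, secRes_secMap]
    obtain ⟨⟨m, ⟨_, c, rfl⟩⟩, hm⟩ := IsLocalizedModule.surj (Submonoid.powers f) (secOf A M (PrimeSpectrum.basicOpen f)) (secRes A M hfU t)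
    refine IsLocalizedModule.smul_injective (secOf A P (PrimeSpectrum.basicOpen f)) (⟨f ^ c, c, rfl⟩ : Submonoid.powers f) ?_
    show f ^ c • secMap ψ _ (secMap φ _ (secRes A M hfU t)) = f ^ c • 0
    rw [smul_zero, ← map_smul, ← map_smul, show f ^ c • secRes A M hfU t = secOf A M _ m from hm, secMap_secOf, secMap_secOf,
      hex.apply_apply_eq_zero, map_zero]
  exact inferInstanceAs (Module.Finite A _)

theorem fin_of_forall_pow (h : ∀ m : M, m ∈ DRing.torsionSub J M) : Fin' J M := by
  have h0 : ∀ m : M, secOf A M (EGA4.openCompl A J) m = 0 := fun m => by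
    rw [secOf_openCompl_eq_zero_iff, ← mem_torsionSub_iff_forall_pow]; exact h m
  haveI : Subsingleton (Sec A M (EGA4.openCompl A J)) := by
    refine subsingleton_of_forall_eq 0 fun s => ?_
    obtain ⟨n, hn⟩ := isPowerTorsion_coker J (Submodule.Quotient.mk s)
    have hs : s ∈ DRing.torsionSub J (Sec A M (EGA4.openCompl A J)) := ⟨n, fun a ha => by
      have h1 := hn a ha
      rw [← Submodule.Quotient.mk_smul, Submodule.Quotient.mk_eq_zero] at h1
      obtain ⟨m, hm⟩ := h1
      rw [← hm, h0]⟩
    have hid : secRes A M (le_rfl : EGA4.openCompl A J ≤ EGA4.openCompl A J) s = s :=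
      congrArg (fun φ => φ.hom s) ((secSheaf A M).obj.map_id _)
    exact hid.symm.trans ((mem_torsionSub_iff_res J le_rfl s).1 hs)
  exact Module.Finite.of_finite

theorem fin_pi {n : ℕ} (h : Fin' J M) : Fin' J (Fin n → M) := by
  induction n with
  | zero => exact fin_of_forall_pow fun m => ⟨0, fun a _ => Subsingleton.elim _ _⟩
  | succ n ih =>
    let ψ : (Fin (n + 1) → M) →ₗ[A] M := LinearMap.proj 0
    let φ : (Fin n → M) →ₗ[A] (Fin (n + 1) → M) :=
      { toFun := fun v => Fin.cons 0 v
        map_add' := fun v w => by ext i; induction i using Fin.cases <;> simp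
        map_smul' := fun a v => by ext i; induction i using Fin.cases <;> simp }
    refine fin_of_exact (φ := φ) (ψ := ψ) (fun v w hvw => ?_) (fun v => ⟨fun hv => ⟨Fin.tail v, ?_⟩, ?_⟩) ih h
    · ext i; simpa [φ] using congrFun hvw i.succ
    · ext i; induction i using Fin.cases with
      | zero => simpa [φ, ψ] using hv.symm
      | succ i => simp [φ, Fin.tail]
    · rintro ⟨w, rfl⟩; rfl

end Groth.Agent.Easy4.PushFin
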