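import Groth.Agent.Easy4.PushDev
import Groth.Agent.SectFinite.Basic

/-! Coherence of the push-forward from the complement of a closed subset of codimension two. -/

set_option autoImplicit false

namespace Groth.Agent.Easy4.PushFin

universe u

theorem fin_self_of_height {D : Type u} [CommRing D] [IsDomain D] [IsNoetherianRing D]
    (hcat : CAlg.IsUniversallyCatenary D) (hN : CAlg.IsN1 D) (J : Ideal D) (hne : J ≠ ⊥) (hJ : (2 : ℕ∞) ≤ J.height) :
    Fin' J D := by
  obtain ⟨b, hb, hb0⟩ := Submodule.exists_mem_ne_zero_of_ne_bot hne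
  let K := FractionRing D
  have hbne : algebraMap D K b ≠ 0 := (map_ne_zero_iff _ (IsFractionRing.injective D K)).2 hb0
  have hbij : Function.Bijective fun z : K => b • z := by
    simp only [Algebra.smul_def]
    exact ⟨mul_right_injective₀ hbne, fun y => ⟨(algebraMap D K b)⁻¹ * y, mul_inv_cancel_left₀ hbne y⟩⟩
  rw [fin_iff_trSub J (Algebra.linearMap D K) (IsFractionRing.injective D K) b hb hbij]
  have hle : trSub J (Algebra.linearMap D K) ≤ Subalgebra.toSubmodule (SectFinite.sect J) := by
    rintro x ⟨n, hn⟩ p hp hJp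
    obtain ⟨s, hs, hsp⟩ := SetLike.not_le_iff_exists.1 hJp
    obtain ⟨a, ha⟩ := hn _ (Ideal.pow_mem_pow hs n)
    exact ⟨s ^ n, fun h => hsp (hp.mem_of_pow_mem n h), a, by rw [← Algebra.smul_def]; exact ha⟩
  haveI : Module.Finite D (Subalgebra.toSubmodule (SectFinite.sect J)) := SectFinite.finite_sect_of_japanese hcat hN J hJ
  haveI : IsNoetherian D (Subalgebra.toSubmodule (SectFinite.sect J)) := isNoetherian_of_isNoetherianRing_of_finite D _
  exact Module.Finite.of_injective (Submodule.inclusion hle) (Submodule.inclusion_injective hle)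

theorem push_of_two_le_height {A : Type u} [CommRing A] [IsNoetherianRing A]
    (hA : CAlg.IsUniversallyCatenary A ∧ CAlg.IsUniversallyJapanese A) (J : Ideal A)
    (M : Type u) [AddCommGroup M] [Module A M] [Module.Finite A M]
    (h : ∀ p ∈ associatedPrimes A M, ¬ J ≤ p → (2 : ℕ∞) ≤ (J.map (Ideal.Quotient.mk p)).height) :
    EGA4.IsCoherentPushCompl A J M := by
  refine (push_iff_associated J M).2 fun p hp hJp => ?_
  haveI := (AssociatedPrimes.mem_iff.1 hp).isPrime
  refine (push_iff _ _).2 (fin_self_of_height (Catenary.isUniversallyCatenary_of_finiteType (A := A) hA.1) ?_ _ ?_ (h p hp hJp))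
  · exact hA.2 (A ⧸ p) (inferInstance) (FractionRing (A ⧸ p)) inferInstance
  · rw [Ne, Ideal.map_eq_bot_iff_le_ker, Ideal.mk_ker]
    exact hJp

end Groth.Agent.Easy4.PushFin
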