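import Groth.Agent.KoszulLib.DescentKinds
import Groth.Prelude.Def_PP16

/-! Descent of locally quasi-regular ideals. -/

set_option autoImplicit false
universe u

namespace Groth.Agent.Easy4.QuasiDesc

open Groth.Agent.KoszulLib

theorem descent (A B : Type u) [CommRing A] [CommRing B]
    [Algebra A B] [Module.FaithfullyFlat A B] (I : Ideal A)
    (h : PP16.IsLocallyQuasiRegular B (Ideal.map (algebraMap A B) I)) :
    PP16.IsLocallyQuasiRegular A I := by
  intro P hP _
  have hB : ∀ Q : PrimeSpectrum B,
      PAt (fun {R} [CommRing R] {_} f => CAlgX.IsQuasiRegular f) (I.map (algebraMap A B)) Q.asIdeal := by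
    intro Q
    by_cases hle : I.map (algebraMap A B) ≤ Q.asIdeal
    · obtain ⟨g, hg, r, f, hf, hspan⟩ := h Q.asIdeal hle
      exact pAt_of_away goodSeq_quasi hg (Localization.Away g) hf hspan.symm
    · obtain ⟨g, hgI, hg⟩ := SetLike.not_le_iff_exists.1 hle
      have htop : (I.map (algebraMap A B)).map (algebraMap B (Localization.Away g)) = ⊤ :=
        Ideal.eq_top_of_isUnit_mem _ (Ideal.mem_map_of_mem _ hgI) (IsLocalization.Away.algebraMap_isUnit g)
      have hs : Ideal.span (Set.range fun _ : Fin 1 => (1 : Localization.Away g)) = ⊤ :=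
        Ideal.eq_top_of_isUnit_mem _ (Ideal.subset_span ⟨0, rfl⟩) isUnit_one
      refine pAt_of_away goodSeq_quasi hg (Localization.Away g) (f := fun _ : Fin 1 => (1 : Localization.Away g))
        (fun n p _ _ d => by rw [hs]; trivial) (by rw [htop, hs])
  obtain ⟨g, hg, n, f, -, hspan, hq⟩ := pAt_of_faithfullyFlat goodSeq_quasi (I := I) hB ⟨P, hP⟩
  exact ⟨g, hg, n, _, hq, hspan.symm⟩

end Groth.Agent.Easy4.QuasiDesc
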