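import Groth.Agent.LocH.TildeTorsion
import Groth.Prelude.Def_EGA4c
import Mathlib

/-! Functoriality of sections of `M~` in `M`. -/

set_option autoImplicit false

namespace Groth.Agent.Easy4.SecMap

universe u

open AlgebraicGeometry CategoryTheory Opposite TopologicalSpace Groth.Agent.LocH

variable {A : Type u} [CommRing A] {M N P : Type u} [AddCommGroup M] [Module A M] [AddCommGroup N] [Module A N]
  [AddCommGroup P] [Module A P]

/-- the map on sections. -/
noncomputable def secMap (φ : M →ₗ[A] N) (U : (Spec (CommRingCat.of A)).Opens) : Sec A M U →ₗ[A] Sec A N U :=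
  (((modulesSpecToSheaf (R := CommRingCat.of A)).map (tilde.map (R := CommRingCat.of A) (ModuleCat.ofHom φ))).1.app (op U)).hom

theorem secMap_secOf (φ : M →ₗ[A] N) (U : (Spec (CommRingCat.of A)).Opens) (m : M) :
    secMap φ U (secOf A M U m) = secOf A N U (φ m) :=
  congrArg (fun f => f.hom m) (tilde.toOpen_map_app (R := CommRingCat.of A) (ModuleCat.ofHom φ) U)

theorem secRes_secMap (φ : M →ₗ[A] N) {U V : (Spec (CommRingCat.of A)).Opens} (h : V ≤ U) (s : Sec A M U) :
    secRes A N h (secMap φ U s) = secMap φ V (secRes A M h s) :=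
  (congrArg (fun f => f.hom s)
    (((modulesSpecToSheaf (R := CommRingCat.of A)).map (tilde.map (R := CommRingCat.of A) (ModuleCat.ofHom φ))).1.naturality
      (homOfLE h).op)).symm

/-- Compatible sections glue. -/
theorem exists_glue {ι : Type u} (V : ι → (Spec (CommRingCat.of A)).Opens) {U : (Spec (CommRingCat.of A)).Opens}
    (hle : ∀ i, V i ≤ U) (hcov : U ≤ ⨆ i, V i) (t : ∀ i, Sec A M (V i))
    (hc : ∀ i j, secRes A M (inf_le_left : V i ⊓ V j ≤ V i) (t i) = secRes A M (inf_le_right : V i ⊓ V j ≤ V j) (t j)) :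
    ∃ s : Sec A M U, ∀ i, secRes A M (hle i) s = t i := by
  obtain ⟨s, hs, -⟩ := (secSheaf A M).existsUnique_gluing' V U (fun i => homOfLE (hle i)) hcov t hc
  exact ⟨s, hs⟩

theorem secMap_basicOpen_eq_zero_iff (φ : M →ₗ[A] N) (f : A) (t : Sec A M (PrimeSpectrum.basicOpen f)) :
    secMap φ _ t = 0 ↔ ∃ (m : M) (c : ℕ), f ^ c • t = secOf A M _ m ∧ φ m = 0 := by
  constructor
  · intro h
    obtain ⟨⟨m, ⟨_, c, rfl⟩⟩, hm⟩ := IsLocalizedModule.surj (Submonoid.powers f) (secOf A M (PrimeSpectrum.basicOpen f)) t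
    change f ^ c • t = secOf A M _ m at hm
    have h0 : secOf A N (PrimeSpectrum.basicOpen f) (φ m) = 0 := by
      rw [← secMap_secOf, ← hm, map_smul, h, smul_zero]
    obtain ⟨⟨_, e, rfl⟩, he⟩ := (IsLocalizedModule.eq_zero_iff (Submonoid.powers f) _).1 h0
    refine ⟨f ^ e • m, e + c, ?_, by rw [map_smul]; exact he⟩
    rw [pow_add, mul_smul, hm, map_smul]
  · rintro ⟨m, c, hm, hφ⟩
    refine IsLocalizedModule.smul_injective (secOf A N (PrimeSpectrum.basicOpen f)) (⟨f ^ c, c, rfl⟩ : Submonoid.powers f) ?_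
    show f ^ c • secMap φ _ t = f ^ c • 0
    rw [smul_zero, ← map_smul, hm, secMap_secOf, hφ, map_zero]

theorem secMap_injective {φ : M →ₗ[A] N} (hφ : Function.Injective φ) (U : (Spec (CommRingCat.of A)).Opens) :
    Function.Injective (secMap φ U) := by
  rw [injective_iff_map_eq_zero]
  intro s hs
  refine sec_ext fun x hx => ?_
  obtain ⟨f, hxf, hfU⟩ := exists_basicOpen_le hx
  refine ⟨f, hfU, hxf, ?_⟩
  rw [map_zero]
  have h0 : secMap φ _ (secRes A M hfU s) = 0 := by rw [← secRes_secMap, hs, map_zero]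
  obtain ⟨m, c, hm, hm0⟩ := (secMap_basicOpen_eq_zero_iff φ f _).1 h0
  rw [hφ (hm0.trans (map_zero φ).symm), map_zero] at hm
  exact IsLocalizedModule.smul_injective (secOf A M (PrimeSpectrum.basicOpen f)) (⟨f ^ c, c, rfl⟩ : Submonoid.powers f)
    (show f ^ c • secRes A M hfU s = f ^ c • 0 by rw [smul_zero, hm])

theorem secMap_exact {φ : M →ₗ[A] N} (hφ : Function.Injective φ) {ψ : N →ₗ[A] P} (hex : Function.Exact φ ψ)
    (U : (Spec (CommRingCat.of A)).Opens) {s : Sec A N U} (hs : secMap ψ U s = 0) :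
    ∃ t : Sec A M U, secMap φ U t = s := by
  let I := {f : A // PrimeSpectrum.basicOpen f ≤ U}
  have hloc : ∀ i : I, ∃ t : Sec A M (PrimeSpectrum.basicOpen i.1), secMap φ _ t = secRes A N i.2 s := by
    intro i
    have h0 : secMap ψ _ (secRes A N i.2 s) = 0 := by rw [← secRes_secMap, hs, map_zero]
    obtain ⟨n, c, hn, hn0⟩ := (secMap_basicOpen_eq_zero_iff ψ i.1 _).1 h0
    obtain ⟨m, rfl⟩ := (hex n).1 hn0
    obtain ⟨t, ht⟩ := ((Module.End.isUnit_iff _).1 (IsLocalizedModule.map_units (secOf A M (PrimeSpectrum.basicOpen i.1))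
      (⟨i.1 ^ c, c, rfl⟩ : Submonoid.powers i.1))).2 (secOf A M _ m)
    change i.1 ^ c • t = secOf A M _ m at ht
    refine ⟨t, IsLocalizedModule.smul_injective (secOf A N (PrimeSpectrum.basicOpen i.1)) (⟨i.1 ^ c, c, rfl⟩ : Submonoid.powers i.1) ?_⟩
    show i.1 ^ c • secMap φ _ t = i.1 ^ c • secRes A N i.2 s
    rw [← map_smul, ht, secMap_secOf, hn]
  choose t ht using hloc
  have hcov : U ≤ ⨆ i : I, PrimeSpectrum.basicOpen i.1 := fun x hx => by
    obtain ⟨f, hxf, hfU⟩ := exists_basicOpen_le hx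
    exact Opens.mem_iSup.2 ⟨⟨f, hfU⟩, hxf⟩
  obtain ⟨T, hT⟩ := exists_glue (fun i : I => PrimeSpectrum.basicOpen i.1) (fun i => i.2) hcov t fun i j => by
    apply secMap_injective hφ
    rw [← secRes_secMap, ← secRes_secMap, ht, ht, secRes_secRes, secRes_secRes]
  refine ⟨T, sec_ext fun x hx => ?_⟩
  obtain ⟨f, hxf, hfU⟩ := exists_basicOpen_le hx
  refine ⟨f, hfU, hxf, ?_⟩
  rw [secRes_secMap, hT ⟨f, hfU⟩]
  exact ht ⟨f, hfU⟩

end Groth.Agent.Easy4.SecMap
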